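import Mathlib
import Cfsg.Agent.Lib.UnitaryFour.Transvection
import Cfsg.Agent.Lib.Unitary.Order

/-!
Hermitian forms over four elements with a radical of codimension three: the number of zeros.
-/

set_option autoImplicit false
set_option linter.style.haveILetI false
set_option linter.unusedSectionVars false

namespace Cfsg.Agent.Lib.FischerMTypes.Seven

open Module Cfsg.Agent.Lib.Unitary Cfsg.Agent.Lib.UnitaryFour.Transvection

variable {F : Type*} [Field F] [Fintype F] {V : Type*} [AddCommGroup V] [Module F V] [Finite V]

/-- a hermitian form over four elements -/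
structure Herm (F : Type*) [Field F] (V : Type*) [AddCommGroup V] [Module F V] where
  B : V → V → F
  add_left : ∀ u v w, B (u + v) w = B u w + B v w
  smul_left : ∀ (a : F) u w, B (a • u) w = a * B u w
  symm : ∀ u v, B u v ^ 2 = B v u

namespace Herm

variable (H : Herm F V)

theorem add_right (hF : Fintype.card F = 2 ^ 2) (u v w : V) : H.B u (v + w) = H.B u v + H.B u w := by
  rw [← H.symm (v + w) u, H.add_left, add_pow_q hF, H.symm, H.symm]

theorem smul_right (a : F) (u v : V) : H.B u (a • v) = a ^ 2 * H.B u v := by
  rw [← H.symm (a • v) u, H.smul_left, mul_pow, H.symm]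

/-- pairing with a vector, linear in the first argument -/
def pair (w : V) : V →ₗ[F] F where
  toFun v := H.B v w
  map_add' u v := H.add_left u v w
  map_smul' a v := H.smul_left a v w

theorem zero_left (w : V) : H.B 0 w = 0 := (H.pair w).map_zero

theorem fixed_self (hF : Fintype.card F = 2 ^ 2) {v : V} (h : H.B v v ≠ 0) : H.B v v = 1 := by
  have h1 : H.B v v * (H.B v v - 1) = 0 := by linear_combination H.symm v v
  exact sub_eq_zero.mp ((mul_eq_zero.mp h1).resolve_left h)

/-- a subspace with a non-zero pairing has a vector of norm one -/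
theorem exists_one (hF : Fintype.card F = 2 ^ 2) (S : Submodule F V) {u w : V} (hu : u ∈ S) (hw : w ∈ S)
    (h : H.B u w ≠ 0) : ∃ v ∈ S, H.B v v = 1 := by
  by_contra hcon
  push Not at hcon
  have hz : ∀ v ∈ S, H.B v v = 0 := fun v hv => by
    by_contra hne
    exact hcon v hv (H.fixed_self hF hne)
  refine h (eq_zero_of_trace_mul_eq_zero hF fun c => ?_)
  have e := hz _ (add_mem (S.smul_mem c hu) hw)
  rw [H.add_left, H.add_right hF, H.add_right hF, hz _ (S.smul_mem c hu), hz w hw, H.smul_left,
    H.smul_right, ← H.symm u w, ← mul_pow, zero_add, add_zero] at e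
  exact e

theorem exists_orthonormal (hF : Fintype.card F = 2 ^ 2) {R : Submodule F V}
    (hR : ∀ v, (∀ w, H.B v w = 0) ↔ v ∈ R) {m : ℕ} (hd : finrank F R + m = finrank F V) :
    ∃ b : Fin m → V, ∀ i j, H.B (b i) (b j) = if i = j then 1 else 0 := by
  have : Module.Finite F V := Module.Finite.of_finite
  have key : ∀ k ≤ m, ∃ b : Fin k → V, ∀ i j, H.B (b i) (b j) = if i = j then 1 else 0 := by
    intro k
    induction k with
    | zero => exact fun _ => ⟨Fin.elim0, fun i => i.elim0⟩
    | succ k ih =>
      intro hk
      obtain ⟨b, hb⟩ := ih (by omega)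
      let P : V →ₗ[F] (Fin k → F) := LinearMap.pi fun i => H.pair (b i)
      have hS : ∀ v, v ∈ LinearMap.ker P ↔ ∀ i, H.B v (b i) = 0 := fun v => by
        rw [LinearMap.mem_ker]
        exact ⟨fun h i => congrFun h i, fun h => funext h⟩
      obtain ⟨u, hu, w, hw, huw⟩ : ∃ u ∈ LinearMap.ker P, ∃ w ∈ LinearMap.ker P, H.B u w ≠ 0 := by
        by_contra hcon
        push Not at hcon
        have hle : LinearMap.ker P ≤ R := by
          intro v hv
          refine (hR v).mp fun w => ?_
          -- split `w` along the family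
          have hw' : w - ∑ i, H.B w (b i) • b i ∈ LinearMap.ker P := by
            rw [hS]
            intro j
            show H.pair (b j) (w - ∑ i, H.B w (b i) • b i) = 0
            rw [map_sub, map_sum]
            simp only [map_smul]
            show H.B w (b j) - ∑ i, H.B w (b i) • H.B (b i) (b j) = 0
            simp [hb]
          have e1 := hcon v hv _ hw'
          have hswap : ∀ x, H.B v x = (H.pair v x) ^ 2 := fun x => (H.symm x v).symm
          rw [hswap] at e1 ⊢
          rw [map_sub, map_sum, sub_pow_q hF, sum_pow_q hF] at e1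
          have hz : ∑ i, (H.pair v (H.B w (b i) • b i)) ^ 2 = 0 := Finset.sum_eq_zero fun i _ => by
            rw [map_smul]
            show (H.B w (b i) • H.B (b i) v) ^ 2 = 0
            rw [← H.symm v (b i), (hS v).mp hv i]
            simp
          rwa [hz, sub_zero] at e1
        have h1 := Submodule.finrank_mono hle
        have h2 := LinearMap.finrank_range_add_finrank_ker P
        have h3 : finrank F (LinearMap.range P) ≤ k := (Submodule.finrank_le _).trans (finrank_fin_fun F).le
        omega
      obtain ⟨v, hv, hv1⟩ := H.exists_one hF _ hu hw huw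
      refine ⟨Fin.snoc b v, fun i j => ?_⟩
      induction i using Fin.lastCases with
      | last =>
        induction j using Fin.lastCases with
        | last => simpa using hv1
        | cast j =>
          rw [Fin.snoc_last, Fin.snoc_castSucc, if_neg (Fin.castSucc_lt_last j).ne', (hS v).mp hv j]
      | cast i =>
        induction j using Fin.lastCases with
        | last =>
          rw [Fin.snoc_last, Fin.snoc_castSucc, if_neg (Fin.castSucc_lt_last i).ne, ← H.symm,
            (hS v).mp hv i]
          simp
        | cast j =>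
          simp only [Fin.snoc_castSucc, Fin.castSucc_inj]
          exact hb i j
  exact key m le_rfl

theorem card_null_three (hF : Fintype.card F = 2 ^ 2) :
    Nat.card {c : Fin 3 → F // Cfsg.hermForm 3 F 2 c c = 0} = 28 := by
  have h := q_mul_countNull (F := F) hF 3
  norm_num at h
  have : (countNull F 2 3 : ℤ) = 28 := by omega
  exact_mod_cast this

/-- the number of zeros, for a radical of any codimension -/
theorem card_null_codim (hF : Fintype.card F = 2 ^ 2) {R : Submodule F V}
    (hR : ∀ v, (∀ w, H.B v w = 0) ↔ v ∈ R) {m : ℕ} (hd : finrank F R + m = finrank F V) :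
    Nat.card {v : V // H.B v v = 0} =
      Nat.card R * Nat.card {c : Fin m → F // Cfsg.hermForm m F 2 c c = 0} := by
  have : Module.Finite F V := Module.Finite.of_finite
  obtain ⟨b, hb⟩ := H.exists_orthonormal hF hR hd
  let P : V →ₗ[F] (Fin m → F) := LinearMap.pi fun i => H.pair (b i)
  let s : (Fin m → F) →ₗ[F] V := ∑ i, (LinearMap.proj i).smulRight (b i)
  have hs : ∀ c, s c = ∑ i, c i • b i := fun c => by simp [s]
  have hPs : ∀ c, P (s c) = c := fun c => funext fun j => by
    rw [hs]
    show H.pair (b j) (∑ i, c i • b i) = c j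
    rw [map_sum]
    simp only [map_smul]
    show ∑ i, c i • H.B (b i) (b j) = c j
    simp [hb]
  have hker : LinearMap.ker P = R := by
    refine (Submodule.eq_of_le_of_finrank_le ?_ ?_).symm
    · exact fun v hv => LinearMap.mem_ker.mpr (funext fun i => (hR v).mpr hv (b i))
    · have h := LinearMap.finrank_range_add_finrank_ker P
      rw [LinearMap.range_eq_top.mpr (fun c => ⟨s c, hPs c⟩), finrank_top, finrank_fin_fun] at h
      omega
  have hdiff : ∀ v, v - s (P v) ∈ R := fun v => by
    rw [← hker, LinearMap.mem_ker, map_sub, hPs, sub_self]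
  have hR0 : ∀ r ∈ R, ∀ w, H.B r w = 0 ∧ H.B w r = 0 := fun r hr w =>
    ⟨(hR r).mpr hr w, by rw [← H.symm r w, (hR r).mpr hr w]; simp⟩
  have hval : ∀ r ∈ R, ∀ c, H.B (r + s c) (r + s c) = Cfsg.hermForm m F 2 c c := fun r hr c => by
    rw [H.add_left, H.add_right hF, H.add_right hF, (hR0 r hr r).1, (hR0 r hr (s c)).1, (hR0 r hr (s c)).2,
      zero_add, zero_add, zero_add, hs]
    show H.pair (∑ i, c i • b i) (∑ i, c i • b i) = _
    rw [map_sum]
    simp only [map_smul]
    show ∑ j, c j • H.B (b j) (∑ i, c i • b i) = _
    refine Finset.sum_congr rfl fun j _ => ?_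
    rw [← H.symm (∑ i, c i • b i) (b j)]
    show c j * (H.pair (b j) (∑ i, c i • b i)) ^ 2 = c j * c j ^ 2
    rw [← hs]
    exact congrArg (fun t => c j * t ^ 2) (congrFun (hPs c) j)
  let e : {v : V // H.B v v = 0} ≃ R × {c : Fin m → F // Cfsg.hermForm m F 2 c c = 0} :=
    { toFun := fun v => (⟨v.1 - s (P v.1), hdiff v.1⟩, ⟨P v.1, by
        rw [← hval _ (hdiff v.1), sub_add_cancel]; exact v.2⟩)
      invFun := fun p => ⟨p.1.1 + s p.2.1, by rw [hval _ p.1.2]; exact p.2.2⟩
      left_inv := fun v => Subtype.ext (sub_add_cancel _ _)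
      right_inv := fun p => by
        have hP : P (p.1.1 + s p.2.1) = p.2.1 := by
          rw [map_add, hPs, LinearMap.mem_ker.mp (hker.symm ▸ p.1.2 : p.1.1 ∈ LinearMap.ker P), zero_add]
        exact Prod.ext (Subtype.ext (by simp [hP])) (Subtype.ext hP) }
  rw [Nat.card_congr e, Nat.card_prod]

/-- the number of zeros -/
theorem card_null (hF : Fintype.card F = 2 ^ 2) {R : Submodule F V}
    (hR : ∀ v, (∀ w, H.B v w = 0) ↔ v ∈ R) (hd : finrank F R + 3 = finrank F V) :
    Nat.card {v : V // H.B v v = 0} = Nat.card R * 28 := by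
  rw [H.card_null_codim hF hR hd, card_null_three hF]

theorem card_null_two (hF : Fintype.card F = 2 ^ 2) {R : Submodule F V}
    (hR : ∀ v, (∀ w, H.B v w = 0) ↔ v ∈ R) (hd : finrank F R + 2 = finrank F V) :
    Nat.card {v : V // H.B v v = 0} = Nat.card R * 10 := by
  rw [H.card_null_codim hF hR hd]
  have h := q_mul_countNull (F := F) hF 2
  norm_num at h
  have h10 : (countNull F 2 2 : ℤ) = 10 := by omega
  exact congrArg _ (by exact_mod_cast h10)

end Herm

end Cfsg.Agent.Lib.FischerMTypes.Seven
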