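import Mathlib
import Cfsg.Agent.Lib.FischerMTypes.Eleven.Unitary
import Cfsg.Agent.Lib.FischerMTypes.Seven.Hermitian
import Cfsg.Agent.Lib.Unitary.Witt
import Cfsg.Agent.S0280
import Cfsg.Agent.Lib.Unitary.Transvection

/-!
Elements of order 7 in the six-dimensional unitary group over four elements: they fix no vector and
are self-centralising modulo the scalars.
-/

set_option autoImplicit false
set_option linter.style.haveILetI false
set_option linter.unusedSectionVars false

namespace Cfsg.Agent.Lib.FischerMTypes.Seven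

open Matrix Module Cfsg.Agent.Lib.Unitary Cfsg.Agent.Lib.UnitaryFour.Transvection
open Cfsg.Agent.Lib.FischerMTypes.Eleven (L det_L fixS mem_fixS card_SU_six card_sub comm_act
  fixS_invariant)

variable {F : Type*} [Field F] [Fintype F]

local notation "h⟪" u ", " v "⟫" => Cfsg.hermForm 6 F 2 u v

/-- a set invariant under an element of prime order has as many points as fixed points, modulo it -/
theorem set_modEq {p : ℕ} (hp : p.Prime) {x : Cfsg.SU 6 F 2} (hx : x ^ p = 1) (S : Set (Fin 6 → F))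
    (hS : ∀ v ∈ S, act x v ∈ S) :
    Nat.card S ≡ Nat.card {v : Fin 6 → F // v ∈ S ∧ act x v = v} [MOD p] := by
  classical
  have : Fact p.Prime := ⟨hp⟩
  let f : Function.End S := fun u => ⟨act x u.1, hS _ u.2⟩
  have hpow : ∀ (i : ℕ) (u : S), ((f ^ i) u).1 = act (x ^ i) u.1 := by
    intro i
    induction i with
    | zero => intro u; exact (act_one _).symm
    | succ i ih =>
      intro u
      rw [pow_succ, pow_succ, act_mul]
      show ((f ^ i) (f u)).1 = _
      rw [ih]
  have hf : f ^ (p ^ 1) = 1 := by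
    funext u
    apply Subtype.ext
    rw [hpow, pow_one, hx, act_one]
    rfl
  have := Fintype.ofFinite S
  have key := Equiv.Perm.card_fixedPoints_modEq (p := p) (n := 1) hf
  rw [← Nat.card_eq_fintype_card, ← Nat.card_eq_fintype_card] at key
  let e : Function.fixedPoints f ≃ {v : Fin 6 → F // v ∈ S ∧ act x v = v} :=
    { toFun := fun u => ⟨u.1.1, u.1.2, congrArg Subtype.val u.2⟩
      invFun := fun u => ⟨⟨u.1, u.2.1⟩, Subtype.ext u.2.2⟩
      left_inv := fun u => rfl
      right_inv := fun u => rfl }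
  rw [← Nat.card_congr e]
  exact key

/-- the restriction of the form to a subspace -/
def restrict (hF : Fintype.card F = 2 ^ 2) (U : Submodule F (Fin 6 → F)) : Herm F U where
  B u v := h⟪u.1, v.1⟫
  add_left u v w := by simp [herm_add_left]
  smul_left a u w := by simp [herm_smul_left]
  symm u v := herm_conj (n := 6) u.1 v.1 hF

/-- the isotropic vectors of a non-degenerate subspace of dimension three -/
theorem card_null_nondeg (hF : Fintype.card F = 2 ^ 2) {U : Submodule F (Fin 6 → F)}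
    (hU : finrank F U = 3) (hn : U ⊓ Cfsg.Agent.Lib.Unitary.perp 2 U = ⊥) :
    Nat.card {u : U // h⟪u.1, u.1⟫ = 0} = 28 := by
  have hR : ∀ v : U, (∀ w, (restrict hF U).B v w = 0) ↔ v ∈ (⊥ : Submodule F U) := by
    intro v
    rw [Submodule.mem_bot]
    constructor
    · intro h
      refine Subtype.ext ((Submodule.eq_bot_iff _).mp hn v.1 ⟨v.2, fun w hw => h ⟨w, hw⟩⟩)
    · rintro rfl w
      exact herm_zero_left _
  have h := (restrict hF U).card_null hF hR (by rw [finrank_bot, hU])
  have hb : Nat.card (⊥ : Submodule F U) = 1 := Nat.card_unique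
  rw [hb, one_mul] at h
  exact h

theorem card_isotropic (hF : Fintype.card F = 2 ^ 2) :
    {v : Fin 6 → F | h⟪v, v⟫ = 0 ∧ v ≠ 0}.ncard = 2079 := by
  have h := q_mul_countNull (F := F) hF 6
  norm_num at h
  have h6 : countNull F 2 6 = 2080 := by omega
  rw [show {v : Fin 6 → F | h⟪v, v⟫ = 0 ∧ v ≠ 0} = {v | h⟪v, v⟫ = 0} \ {0} from rfl,
    Set.ncard_sdiff_singleton_of_mem (show (0 : Fin 6 → F) ∈ {v | h⟪v, v⟫ = 0} from herm_zero_left _)]
  rw [← Nat.card_coe_set_eq]
  show Nat.card {v : Fin 6 → F // h⟪v, v⟫ = 0} - 1 = 2079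
  have h6' : Nat.card {v : Fin 6 → F // h⟪v, v⟫ = 0} = 2080 := h6
  omega

/-- the order of the stabiliser of an isotropic vector -/
theorem exists_stab (hF : Fintype.card F = 2 ^ 2) {v : Fin 6 → F} (hv : h⟪v, v⟫ = 0) (hv0 : v ≠ 0) :
    ∃ S : Subgroup (Cfsg.SU 6 F 2), (∀ g, g ∈ S ↔ act g v = v) ∧ 2079 * Nat.card S = Nat.card (Cfsg.SU 6 F 2) := by
  let S : Subgroup (Cfsg.SU 6 F 2) :=
    { carrier := {g | act g v = v}
      one_mem' := act_one v
      mul_mem' := fun {g h} hg hh => by
        show act (g * h) v = v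
        rw [act_mul, show act h v = v from hh, show act g v = v from hg]
      inv_mem' := fun {g} hg => by
        show act g⁻¹ v = v
        conv_lhs => rw [← show act g v = v from hg]
        rw [act_inv_self] }
  let O : Set (Fin 6 → F) := {v | h⟪v, v⟫ = 0 ∧ v ≠ 0}
  let f : Cfsg.SU 6 F 2 ⧸ S → O := Quotient.lift (fun g => (⟨act g v, by rw [act_herm]; exact hv,
      fun h0 => hv0 (by rw [← act_inv_self g v, h0]; exact (L g⁻¹).map_zero)⟩ : O)) (by
    intro a b hab
    have h : act (a⁻¹ * b) v = v := QuotientGroup.leftRel_apply.mp hab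
    refine Subtype.ext ?_
    show act a v = act b v
    conv_lhs => rw [← h]
    rw [← act_mul, mul_inv_cancel_left])
  have hf : Function.Bijective f := by
    constructor
    · intro a b
      refine Quotient.inductionOn₂' a b fun a b h => Quotient.sound' (QuotientGroup.leftRel_apply.mpr ?_)
      show act (a⁻¹ * b) v = v
      rw [act_mul, ← show act a v = act b v from congrArg Subtype.val h, act_inv_self]
    · rintro ⟨w, hw, hw0⟩
      obtain ⟨A, hdet, hA⟩ := exists_SU_isotropic hF (by norm_num) hv0 hv hw0 hw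
      exact ⟨QuotientGroup.mk (⟨⟨A.1.1, hdet⟩, A.2⟩ : Cfsg.SU 6 F 2), Subtype.ext hA⟩
  refine ⟨S, fun g => Iff.rfl, ?_⟩
  rw [Subgroup.card_eq_card_quotient_mul_card_subgroup S, Nat.card_eq_of_bijective f hf,
    Nat.card_coe_set_eq, card_isotropic hF]

/-- an element of order 7 fixes no isotropic vector -/
theorem no_fixed_isotropic (hF : Fintype.card F = 2 ^ 2) {x : Cfsg.SU 6 F 2} (hx : orderOf x = 7)
    {v : Fin 6 → F} (hv : h⟪v, v⟫ = 0) (hv0 : v ≠ 0) : act x v ≠ v := by
  intro hfix
  obtain ⟨S, hS, hcard⟩ := exists_stab hF hv hv0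
  have h7 : 7 ∣ Nat.card S := hx ▸ Subgroup.orderOf_dvd_natCard (x := x) S ((hS x).mpr hfix)
  rw [card_SU_six hF] at hcard
  obtain ⟨m, hm⟩ := h7
  omega

/-- an element of order 5 fixes a vector -/
theorem exists_fixed_five (hF : Fintype.card F = 2 ^ 2) {y : Cfsg.SU 6 F 2} (hy : orderOf y = 5) :
    ∃ v, v ≠ 0 ∧ act y v = v := by
  have : Fact (Nat.Prime 5) := ⟨by norm_num⟩
  obtain ⟨v, hv0, hv⟩ : ∃ v : Fin 6 → F, v ≠ 0 ∧ h⟪v, v⟫ = 0 := by
    obtain ⟨v, hv, hv0⟩ := Set.nonempty_of_ncard_ne_zero (by rw [card_isotropic hF]; norm_num :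
      {v : Fin 6 → F | h⟪v, v⟫ = 0 ∧ v ≠ 0}.ncard ≠ 0)
    exact ⟨v, hv0, hv⟩
  obtain ⟨S, hS, hcard⟩ := exists_stab hF hv hv0
  rw [card_SU_six hF] at hcard
  obtain ⟨s, hs⟩ := exists_prime_orderOf_dvd_card' (G := S) 5 (by
    refine (Nat.Coprime.dvd_mul_left (by norm_num : Nat.Coprime 5 2079)).mp ?_
    rw [hcard]; norm_num)
  rw [← Subgroup.orderOf_coe] at hs
  have hfac : (Nat.card (Cfsg.SU 6 F 2)).factorization 5 = 1 := by
    have h0 : Nat.card (Cfsg.SU 6 F 2) ≠ 0 := Nat.card_pos.ne'
    have hp : Nat.Prime 5 := by norm_num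
    have h1 := (hp.pow_dvd_iff_le_factorization (k := 1) h0).mp (by rw [card_SU_six hF]; norm_num)
    have h2 : ¬ 2 ≤ (Nat.card (Cfsg.SU 6 F 2)).factorization 5 := fun hle => by
      have := (hp.pow_dvd_iff_le_factorization (k := 2) h0).mpr hle
      rw [card_SU_six hF] at this
      norm_num at this
    omega
  have hcy : ∀ z : Cfsg.SU 6 F 2, orderOf z = 5 →
      Nat.card (Subgroup.zpowers z) = 5 ^ (Nat.card (Cfsg.SU 6 F 2)).factorization 5 := fun z hz => by
    rw [hfac, Nat.card_zpowers, hz, pow_one]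
  obtain ⟨g, hg⟩ := MulAction.exists_smul_eq (Cfsg.SU 6 F 2) (Sylow.ofCard _ (hcy _ hs)) (Sylow.ofCard _ (hcy y hy))
  have hg' : (Subgroup.zpowers (s : Cfsg.SU 6 F 2)).map (MulAut.conj g).toMonoidHom = Subgroup.zpowers y :=
    congrArg Sylow.toSubgroup hg
  have hmem : y ∈ (Subgroup.zpowers (s : Cfsg.SU 6 F 2)).map (MulAut.conj g).toMonoidHom :=
    hg' ▸ Subgroup.mem_zpowers y
  obtain ⟨t, ht, hte⟩ := hmem
  have htS : act t v = v := (hS t).mp (Subgroup.zpowers_le.mpr s.2 ht)
  refine ⟨act g v, fun h0 => hv0 (by rw [← act_inv_self g v, h0]; exact (L g⁻¹).map_zero), ?_⟩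
  rw [← hte]
  show act (g * t * g⁻¹) (act g v) = act g v
  rw [act_mul, act_mul, act_inv_self, htS]

variable {x : Cfsg.SU 6 F 2}

theorem pow_seven (hx : orderOf x = 7) : x ^ 7 = 1 := hx ▸ pow_orderOf_eq_one x

/-- an element of order 7 fixes no non-zero vector -/
theorem fixS_eq_bot (hF : Fintype.card F = 2 ^ 2) (hx : orderOf x = 7) : fixS x = ⊥ := by
  set U := fixS x
  by_cases hn : U ⊓ Cfsg.Agent.Lib.Unitary.perp 2 U = ⊥
  · have h := set_modEq (by norm_num) (pow_seven hx) Set.univ (fun _ _ => trivial)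
    have e : Nat.card {v : Fin 6 → F // v ∈ (Set.univ : Set (Fin 6 → F)) ∧ act x v = v} = Nat.card U :=
      Nat.card_congr (Equiv.subtypeEquivRight fun v => ⟨fun h => mem_fixS.mpr h.2, fun h => ⟨trivial, mem_fixS.mp h⟩⟩)
    rw [e, Nat.card_congr (Equiv.Set.univ _), card_sub hF, Nat.card_fun, Nat.card_fin,
      Nat.card_eq_fintype_card, hF] at h
    have hk : finrank F U ≤ 6 := (Submodule.finrank_le _).trans (finrank_fin_fun F).le
    have hne6 : finrank F U ≠ 6 := by
      intro h6
      have htop : U = ⊤ := Submodule.eq_top_of_finrank_eq (by rw [h6, finrank_fin_fun])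
      have h1 : x = 1 := ext' fun v => by
        rw [act_one, mem_fixS.mp (show v ∈ U from htop ▸ Submodule.mem_top)]
      rw [h1, orderOf_one] at hx
      omega
    have hne3 : finrank F U ≠ 3 := by
      intro h3
      have hc := card_null_nondeg hF h3 hn
      obtain ⟨u, hu⟩ : ∃ u : {u : U // h⟪u.1, u.1⟫ = 0}, u.1 ≠ 0 := by
        by_contra hcon
        push Not at hcon
        have : Subsingleton {u : U // h⟪u.1, u.1⟫ = 0} :=
          ⟨fun a b => Subtype.ext ((hcon a).trans (hcon b).symm)⟩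
        have := Finite.card_le_one_iff_subsingleton.mpr this
        omega
      exact no_fixed_isotropic hF hx u.2 (fun h0 => hu (Subtype.ext h0)) (mem_fixS.mp u.1.2)
    refine Submodule.finrank_eq_zero.mp ?_
    generalize finrank F U = k at *
    interval_cases k <;> simp_all [Nat.ModEq]
  · obtain ⟨r, hr, hr0⟩ := Submodule.exists_mem_ne_zero_of_ne_bot hn
    exact absurd (mem_fixS.mp hr.1) (no_fixed_isotropic hF hx (hr.2 r hr.1) hr0)

theorem fixed_eq_zero (hF : Fintype.card F = 2 ^ 2) (hx : orderOf x = 7) {v : Fin 6 → F}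
    (h : act x v = v) : v = 0 :=
  (Submodule.eq_bot_iff _).mp (fixS_eq_bot hF hx) v (mem_fixS.mpr h)

/-- invariant subspaces have dimension 0, 3 or 6 -/
theorem finrank_invariant (hF : Fintype.card F = 2 ^ 2) (hx : orderOf x = 7) {U : Submodule F (Fin 6 → F)}
    (hU : ∀ u ∈ U, act x u ∈ U) : finrank F U = 0 ∨ finrank F U = 3 ∨ finrank F U = 6 := by
  have h := set_modEq (by norm_num) (pow_seven hx) (U : Set (Fin 6 → F)) hU
  have e : Nat.card {v : Fin 6 → F // v ∈ (U : Set (Fin 6 → F)) ∧ act x v = v} = 1 := by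
    rw [Nat.card_eq_one_iff_unique]
    exact ⟨⟨fun a b => Subtype.ext ((fixed_eq_zero hF hx a.2.2).trans (fixed_eq_zero hF hx b.2.2).symm)⟩,
      ⟨⟨0, U.zero_mem, (L x).map_zero⟩⟩⟩
  rw [e, show Nat.card (U : Set (Fin 6 → F)) = Nat.card U from rfl, card_sub hF] at h
  have hk : finrank F U ≤ 6 := (Submodule.finrank_le _).trans (finrank_fin_fun F).le
  generalize finrank F U = k at *
  interval_cases k <;> simp_all [Nat.ModEq]

/-- invariant subspaces of dimension three are totally isotropic -/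
theorem le_perp (hF : Fintype.card F = 2 ^ 2) (hx : orderOf x = 7) {U : Submodule F (Fin 6 → F)}
    (hU : ∀ u ∈ U, act x u ∈ U) (h3 : finrank F U = 3) :
    U ≤ Cfsg.Agent.Lib.Unitary.perp 2 U := by
  set R := U ⊓ Cfsg.Agent.Lib.Unitary.perp 2 U
  have hinj : ∀ w ∈ U, ∃ w' ∈ U, act x w' = w := by
    intro w hw
    refine ⟨act (x ^ 6) w, ?_, by rw [← act_mul, ← pow_succ', pow_seven hx, act_one]⟩
    have : ∀ i, act (x ^ i) w ∈ U := by
      intro i
      induction i with
      | zero => rwa [pow_zero, act_one]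
      | succ i ih => rw [pow_succ', act_mul]; exact hU _ ih
    exact this 6
  have hR : ∀ u ∈ R, act x u ∈ R := fun u hu => ⟨hU u hu.1, fun w hw => by
    obtain ⟨w', hw', rfl⟩ := hinj w hw
    rw [act_herm]
    exact hu.2 w' hw'⟩
  have hle : finrank F R ≤ 3 := (Submodule.finrank_mono inf_le_left).trans h3.le
  rcases finrank_invariant hF hx hR with h | h | h
  · exfalso
    have hn : U ⊓ Cfsg.Agent.Lib.Unitary.perp 2 U = ⊥ := Submodule.finrank_eq_zero.mp h
    have hm := set_modEq (by norm_num) (pow_seven hx) {v | v ∈ U ∧ h⟪v, v⟫ = 0}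
      (fun v hv => ⟨hU v hv.1, by rw [act_herm]; exact hv.2⟩)
    have e1 : Nat.card {v : Fin 6 → F | v ∈ U ∧ h⟪v, v⟫ = 0} = 28 := by
      rw [← card_null_nondeg hF h3 hn]
      exact Nat.card_congr ((Equiv.subtypeSubtypeEquivSubtypeInter (fun v => v ∈ U)
        (fun v => h⟪v, v⟫ = 0)).symm)
    have e2 : Nat.card {v : Fin 6 → F // v ∈ {v : Fin 6 → F | v ∈ U ∧ h⟪v, v⟫ = 0} ∧ act x v = v} = 1 := by
      rw [Nat.card_eq_one_iff_unique]
      exact ⟨⟨fun a b => Subtype.ext ((fixed_eq_zero hF hx a.2.2).trans (fixed_eq_zero hF hx b.2.2).symm)⟩,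
        ⟨⟨0, ⟨U.zero_mem, herm_zero_left _⟩, (L x).map_zero⟩⟩⟩
    rw [e1, e2] at hm
    simp [Nat.ModEq] at hm
  · have : R = U := Submodule.eq_of_le_of_finrank_eq inf_le_left (by rw [h, h3])
    exact this.ge.trans inf_le_right
  · omega

theorem eq_one_of_fixS (y : Cfsg.SU 6 F 2) (h : finrank F (fixS y) = 6) : y = 1 := by
  have htop : fixS y = ⊤ := Submodule.eq_top_of_finrank_eq (by rw [h, finrank_fin_fun])
  exact ext' fun v => by rw [act_one, mem_fixS.mp (show v ∈ fixS y from htop ▸ Submodule.mem_top)]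

/-- fixed vectors of a centralising element form a totally isotropic half or everything -/
theorem fixS_cases (hF : Fintype.card F = 2 ^ 2) (hx : orderOf x = 7) {y : Cfsg.SU 6 F 2}
    (h : y * x = x * y) (hne : ∃ v, v ≠ 0 ∧ act y v = v) (hy : y ≠ 1) :
    finrank F (fixS y) = 3 ∧ fixS y ≤ Cfsg.Agent.Lib.Unitary.perp 2 (fixS y) := by
  have hU : ∀ u ∈ fixS y, act x u ∈ fixS y := fun u hu => fixS_invariant h.symm hu
  rcases finrank_invariant hF hx hU with h0 | h3 | h6
  · obtain ⟨v, hv0, hv⟩ := hne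
    exact absurd ((Submodule.eq_bot_iff _).mp (Submodule.finrank_eq_zero.mp h0) v (mem_fixS.mpr hv)) hv0
  · exact ⟨h3, le_perp hF hx hU h3⟩
  · exact absurd (eq_one_of_fixS y h6) hy

/-- such an element is an involution -/
theorem sq_eq_one (hF : Fintype.card F = 2 ^ 2) {y : Cfsg.SU 6 F 2}
    (h3 : finrank F (fixS y) = 3) (hle : fixS y ≤ Cfsg.Agent.Lib.Unitary.perp 2 (fixS y)) : y * y = 1 := by
  have heq : Cfsg.Agent.Lib.Unitary.perp 2 (fixS y) = fixS y := by
    refine (Submodule.eq_of_le_of_finrank_eq hle ?_).symm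
    have := finrank_perp (q := 2) hF (fixS y)
    omega
  refine ext' fun v => ?_
  rw [act_one, act_mul]
  have hmem : act y v + v ∈ fixS y := by
    rw [← heq]
    intro u hu
    rw [herm_add_left]
    conv_lhs => rw [← mem_fixS.mp hu, act_herm, mem_fixS.mp hu]
    exact add_self_zero hF _
  have h := mem_fixS.mp hmem
  rw [act_add, add_comm (act y v) v] at h
  exact add_right_cancel h

/-- no involution centralises an element of order 7 -/
theorem no_involution (hF : Fintype.card F = 2 ^ 2) (hx : orderOf x = 7) {y : Cfsg.SU 6 F 2}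
    (h : y * x = x * y) (hy : orderOf y = 2) : False := by
  have hy2 : y * y = 1 := by
    have h2 := pow_orderOf_eq_one y
    rwa [hy, pow_two] at h2
  have hy1 : y ≠ 1 := fun h1 => by rw [h1, orderOf_one] at hy; omega
  obtain ⟨v, hv⟩ : ∃ v, nil y v ≠ 0 := by
    by_contra hcon
    push Not at hcon
    exact hy1 (eq_one_of_nil hF hcon)
  have hne : ∃ w, w ≠ 0 ∧ act y w = w :=
    ⟨nil y v, hv, by rw [act_eq_nil hF, nil_nil hF hy2, add_zero]⟩
  obtain ⟨h3, -⟩ := fixS_cases hF hx h hne hy1
  let H : Herm F (Fin 6 → F) :=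
    { B := fun u w => h⟪nil y u, w⟫
      add_left := fun u w z => by rw [nil_add, herm_add_left]
      smul_left := fun a u w => by rw [nil_smul, herm_smul_left]
      symm := fun u w => by rw [herm_conj _ _ hF, herm_nil_left hF hy2] }
  have hR : ∀ u, (∀ w, H.B u w = 0) ↔ u ∈ fixS y := by
    intro u
    constructor
    · intro hu
      have h0 : nil y u = 0 := herm_nondeg_left hF hu
      rw [mem_fixS, act_eq_nil hF, h0, add_zero]
    · intro hu w
      show h⟪nil y u, w⟫ = 0
      rw [show nil y u = 0 by rw [nil, mem_fixS.mp hu, add_self_zero hF], herm_zero_left]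
  have hcount := H.card_null hF hR (by rw [h3, finrank_fin_fun])
  rw [card_sub hF, h3] at hcount
  have hinv : ∀ u, nil y (act x u) = act x (nil y u) := fun u => by
    rw [nil, nil, act_add, comm_act h]
  have hm := set_modEq (by norm_num) (pow_seven hx) {u | H.B u u = 0} (fun u (hu : H.B u u = 0) => by
    show h⟪nil y (act x u), act x u⟫ = 0
    rw [hinv, act_herm]; exact hu)
  have e2 : Nat.card {u : Fin 6 → F // u ∈ {u | H.B u u = 0} ∧ act x u = u} = 1 := by
    rw [Nat.card_eq_one_iff_unique]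
    exact ⟨⟨fun a b => Subtype.ext ((fixed_eq_zero hF hx a.2.2).trans (fixed_eq_zero hF hx b.2.2).symm)⟩,
      ⟨⟨0, H.zero_left 0, (L x).map_zero⟩⟩⟩
  rw [show Nat.card {u | H.B u u = 0} = 4 ^ 3 * 28 from hcount, e2] at hm
  simp [Nat.ModEq] at hm

/-- an element of order 3 centralising an element of order 7 is scalar -/
theorem scalar_of_order_three (hF : Fintype.card F = 2 ^ 2) (hx : orderOf x = 7) {y : Cfsg.SU 6 F 2}
    (h : y * x = x * y) (hy : orderOf y = 3) : y ∈ Subgroup.center (Cfsg.SU 6 F 2) := by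
  have hy1 : y ≠ 1 := fun h1 => by rw [h1, orderOf_one] at hy; omega
  have hfix0 : ∀ v, act y v = v → v = 0 := by
    intro v hv
    by_contra hv0
    obtain ⟨h3, hle⟩ := fixS_cases hF hx h ⟨v, hv0, hv⟩ hy1
    exact hy1 (orderOf_eq_one_iff.mp (by
      have h2 : orderOf y ∣ 2 := orderOf_dvd_of_pow_eq_one (by rw [sq, sq_eq_one hF h3 hle])
      rw [hy] at h2
      norm_num at h2))
  obtain ⟨w, hw0, hw1, hw⟩ := exists_omega hF
  have h2 := two_eq_zero hF
  let E : F → Submodule F (Fin 6 → F) := fun c => LinearMap.ker (L y - c • LinearMap.id)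
  have hmem : ∀ c v, v ∈ E c ↔ act y v = c • v := fun c v => by
    simp [E, LinearMap.mem_ker, sub_eq_zero, Eleven.L_apply]
  have hEinv : ∀ c, ∀ v ∈ E c, act x v ∈ E c := fun c v hv => by
    rw [hmem] at hv ⊢
    rw [comm_act h, hv, act_smul]
  have hy3 : ∀ v, act y (act y (act y v)) = v := fun v => by
    rw [← act_mul, ← act_mul, show y * y * y = y ^ 3 by rw [pow_three, mul_assoc], ← hy, pow_orderOf_eq_one,
      act_one]
  have hrel : ∀ v, act y (act y v) + act y v + v = 0 := fun v => hfix0 _ (by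
    rw [act_add, act_add, hy3]; abel)
  have hw2 : w + w ^ 2 = 1 := by linear_combination hw - h2
  have hyy : ∀ v, act y (act y v) = act y v + v := fun v => by
    calc act y (act y v) = (act y (act y v) + act y v + v) + (act y v + v) := by
          rw [show act y (act y v) + act y v + v + (act y v + v) =
            act y (act y v) + ((act y v + v) + (act y v + v)) by abel, add_self_zero hF, add_zero]
      _ = act y v + v := by rw [hrel, zero_add]
  have he1 : 1 + w ^ 2 = w := by linear_combination hw - w * h2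
  have he2 : 1 + w = w ^ 2 := by linear_combination hw - w ^ 2 * h2
  -- the two eigenspaces span everything
  have hA : ∀ v, act y v + w ^ 2 • v ∈ E w := fun v => by
    rw [hmem, act_add, act_smul, hyy, smul_add, smul_smul,
      show w * w ^ 2 = 1 by rw [← pow_succ', cube_eq_one hF hw0], one_smul]
    calc act y v + v + w ^ 2 • act y v = (1 + w ^ 2) • act y v + v := by rw [add_smul, one_smul]; abel
      _ = w • act y v + v := by rw [he1]
  have hB : ∀ v, act y v + w • v ∈ E (w ^ 2) := fun v => by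
    rw [hmem, act_add, act_smul, hyy, smul_add, smul_smul,
      show w ^ 2 * w = 1 by rw [← pow_succ, cube_eq_one hF hw0], one_smul]
    calc act y v + v + w • act y v = (1 + w) • act y v + v := by rw [add_smul, one_smul]; abel
      _ = w ^ 2 • act y v + v := by rw [he2]
  have hspan : ∀ v, (act y v + w ^ 2 • v) + (act y v + w • v) = v := fun v => by
    rw [add_add_add_comm, add_self_zero hF, zero_add, ← add_smul, add_comm, hw2, one_smul]
  have horth : ∀ u ∈ E w, ∀ v ∈ E (w ^ 2), h⟪u, v⟫ = 0 := by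
    intro u hu v hv
    rw [hmem] at hu hv
    have e := act_herm y u v
    rw [hu, hv, herm_smul_left, herm_smul_right] at e
    have e' : (w ^ 2 - 1) * h⟪u, v⟫ = 0 := by
      linear_combination e - h⟪u, v⟫ * (w ^ 2) * cube_eq_one hF hw0
    refine (mul_eq_zero.mp e').resolve_left (sub_ne_zero.mpr fun h1 => hw1 ?_)
    linear_combination -(w : F) * h1 + cube_eq_one hF hw0
  have hscal : ∀ c, finrank F (E c) = 6 → y ∈ Subgroup.center (Cfsg.SU 6 F 2) := by
    intro c h6
    have htop : E c = ⊤ := Submodule.eq_top_of_finrank_eq (by rw [h6, finrank_fin_fun])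
    exact (Cfsg.Agent.Lib.Unitary.mem_center_SU_iff hF (by norm_num) y).mpr
      ⟨c, fun v => (hmem c v).mp (htop ▸ Submodule.mem_top)⟩
  have htop : E w ⊔ E (w ^ 2) = ⊤ := by
    rw [eq_top_iff]
    intro v _
    rw [← hspan v]
    exact Submodule.add_mem_sup (hA v) (hB v)
  rcases finrank_invariant hF hx (hEinv w) with ha | ha | ha
  · refine hscal (w ^ 2) ?_
    rw [Submodule.finrank_eq_zero.mp ha, bot_sup_eq] at htop
    rw [htop, finrank_top, finrank_fin_fun]
  · exfalso
    obtain ⟨u, hu, hu0⟩ := Submodule.exists_mem_ne_zero_of_ne_bot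
      (show E w ≠ ⊥ from fun hb => by rw [hb, finrank_bot] at ha; omega)
    refine hu0 (herm_nondeg_left hF fun v => ?_)
    rw [← hspan v, herm_add_right _ _ _ hF, le_perp hF hx (hEinv w) ha hu _ (hA v), horth u hu _ (hB v),
      add_zero]
  · exact hscal w ha

/-- no element of the group has a cube equal to a non-trivial scalar -/
theorem no_cube_root (hF : Fintype.card F = 2 ^ 2) {y : Cfsg.SU 6 F 2} {c : F} (hc1 : c ≠ 1)
    (hy : ∀ v, act y (act y (act y v)) = c • v) : False := by
  have h2 := two_eq_zero hF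
  have hc0 : c ≠ 0 := by
    intro h0
    have h := hy (Pi.single 0 1)
    rw [h0, zero_smul] at h
    have h' := congrArg (fun v => act y⁻¹ (act y⁻¹ (act y⁻¹ v))) h
    simp only [act_inv_self] at h'
    have hz : act y⁻¹ (0 : Fin 6 → F) = 0 := (L y⁻¹).map_zero
    rw [hz, hz, hz] at h'
    simpa using congrFun h' 0
  let M : Matrix (Fin 3) (Fin 3) F := !![0, 0, c; 1, 0, 0; 0, 1, 0]
  have hM : LinearMap.det (Matrix.toLin' M) = c := by
    rw [LinearMap.det_toLin', Matrix.det_fin_three]
    simp [M]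
  let B : (Fin 6 → F) → ((Fin 3 → F) →ₗ[F] (Fin 6 → F)) := fun v =>
    (LinearMap.proj (R := F) (φ := fun _ : Fin 3 => F) 0).smulRight v +
    (LinearMap.proj (R := F) (φ := fun _ : Fin 3 => F) 1).smulRight (act y v) +
    (LinearMap.proj (R := F) (φ := fun _ : Fin 3 => F) 2).smulRight (act y (act y v))
  have hB : ∀ v s, B v s = s 0 • v + s 1 • act y v + s 2 • act y (act y v) := fun v s => by simp [B]
  have hTB : ∀ v s, act y (B v s) = B v (Matrix.toLin' M s) := fun v s => by
    rw [hB, hB, act_add, act_add, act_smul, act_smul, act_smul, hy, smul_smul]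
    simp [M, Matrix.toLin'_apply, Matrix.vecHead, Matrix.vecTail, mul_comm c]
    abel
  -- the adjugate of `s`
  have hnorm : ∀ s : Fin 3 → F, s ≠ 0 → ∃ N : F, N ≠ 0 ∧ ∀ v,
      (s 0 ^ 2 + c * (s 1 * s 2)) • B v s + (c * s 2 ^ 2 + s 0 * s 1) • act y (B v s) +
        (s 1 ^ 2 + s 0 * s 2) • act y (act y (B v s)) = N • v := by
    intro s hs
    refine ⟨s 0 ^ 3 + c * s 1 ^ 3 + c ^ 2 * s 2 ^ 3 + c * (s 0 * s 1 * s 2), ?_, fun v => ?_⟩
    · have hc2 : c ^ 2 + c + 1 = 0 := by
        have h3 : (c - 1) * (c ^ 2 + c + 1) = 0 := by linear_combination cube_eq_one hF hc0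
        exact (mul_eq_zero.mp h3).resolve_left (sub_ne_zero.mpr hc1)
      intro hN
      apply hs
      have hcase : ∀ t : F, t ^ 3 = 0 ∧ t = 0 ∨ t ^ 3 = 1 ∧ t ≠ 0 := fun t => by
        by_cases ht : t = 0
        · exact Or.inl ⟨by rw [ht]; ring, ht⟩
        · exact Or.inr ⟨cube_eq_one hF ht, ht⟩
      rcases hcase (s 0) with ⟨ea, ha⟩ | ⟨ea, ha⟩ <;> rcases hcase (s 1) with ⟨eb, hb⟩ | ⟨eb, hb⟩ <;>
        rcases hcase (s 2) with ⟨ee, he⟩ | ⟨ee, he⟩ <;> rw [ea, eb, ee] at hN
      · ext i; fin_cases i <;> assumption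
      · simp only [ha, hb] at hN; exact absurd (by linear_combination hN : c ^ 2 = 0) (pow_ne_zero 2 hc0)
      · simp only [ha, he] at hN; exact absurd (by linear_combination hN : c = 0) hc0
      · simp only [ha] at hN
        exact absurd (by linear_combination hc2 - hN : (1 : F) = 0) one_ne_zero
      · simp only [hb, he] at hN; exact absurd (by linear_combination hN : (1 : F) = 0) one_ne_zero
      · simp only [hb] at hN; exact absurd (by linear_combination hc2 - hN : c = 0) hc0
      · simp only [he] at hN; exact absurd (by linear_combination hc2 - hN : c ^ 2 = 0) (pow_ne_zero 2 hc0)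
      · exact absurd (by linear_combination hN - hc2 : c * (s 0 * s 1 * s 2) = 0)
          (mul_ne_zero hc0 (mul_ne_zero (mul_ne_zero ha hb) he))
    · rw [hTB, hTB, hB v s, hB, hB]
      simp [M, Matrix.toLin'_apply, Matrix.vecHead, Matrix.vecTail]
      match_scalars <;> first
        | linear_combination (s 0 * c * s 1 * s 2) * h2
        | linear_combination (s 0 * c * s 2 ^ 2 + s 0 ^ 2 * s 1 + c * s 1 ^ 2 * s 2) * h2
        | linear_combination (s 0 * s 1 ^ 2 + s 0 ^ 2 * s 2 + c * s 1 * s 2 ^ 2) * h2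
  have hkey : ∀ v, v ≠ 0 → ∀ s, B v s = 0 → s = 0 := by
    intro v hv s hs
    by_contra hs0
    obtain ⟨N, hN, he⟩ := hnorm s hs0
    have := he v
    have hz : act y (0 : Fin 6 → F) = 0 := (L y).map_zero
    rw [hs, hz, hz, smul_zero, smul_zero, smul_zero, add_zero, add_zero, eq_comm, smul_eq_zero] at this
    exact this.elim hN hv
  obtain ⟨v, hv⟩ := exists_ne (0 : Fin 6 → F)
  have hrange : finrank F (LinearMap.range (B v)) = 3 := by
    rw [LinearMap.finrank_range_of_inj (LinearMap.ker_eq_bot.mp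
      ((Submodule.eq_bot_iff _).mpr fun s hs => hkey v hv s hs)), finrank_fin_fun]
  obtain ⟨w, hw⟩ : ∃ w, w ∉ LinearMap.range (B v) := by
    by_contra hcon
    push Not at hcon
    rw [(Submodule.eq_top_iff').mpr hcon, finrank_top, finrank_fin_fun] at hrange
    omega
  let e₀ : ((Fin 3 → F) × (Fin 3 → F)) →ₗ[F] (Fin 6 → F) := (B v).coprod (B w)
  have hinj : Function.Injective e₀ := by
    refine LinearMap.ker_eq_bot.mp ((Submodule.eq_bot_iff _).mpr ?_)
    rintro ⟨a, b⟩ hab
    rw [LinearMap.mem_ker] at hab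
    simp only [e₀, LinearMap.coprod_apply] at hab
    by_cases hb : b = 0
    · subst hb
      rw [map_zero, add_zero] at hab
      rw [hkey v hv a hab]; rfl
    · exfalso
      obtain ⟨N, hN, he⟩ := hnorm b hb
      have hmem : B w b ∈ LinearMap.range (B v) := by
        rw [eq_neg_of_add_eq_zero_right hab]
        exact neg_mem ⟨a, rfl⟩
      have hT : ∀ u ∈ LinearMap.range (B v), act y u ∈ LinearMap.range (B v) := by
        rintro _ ⟨s, rfl⟩
        exact ⟨_, (hTB v s).symm⟩
      have hNw : N • w ∈ LinearMap.range (B v) := by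
        rw [← he w]
        exact add_mem (add_mem (Submodule.smul_mem _ _ hmem) (Submodule.smul_mem _ _ (hT _ hmem)))
          (Submodule.smul_mem _ _ (hT _ (hT _ hmem)))
      exact hw ((Submodule.smul_mem_iff _ hN).mp hNw)
  let e : ((Fin 3 → F) × (Fin 3 → F)) ≃ₗ[F] (Fin 6 → F) :=
    e₀.linearEquivOfInjective hinj (by rw [finrank_prod, finrank_fin_fun, finrank_fin_fun])
  have hconj : L y = (e.toLinearMap ∘ₗ ((Matrix.toLin' M).prodMap (Matrix.toLin' M))) ∘ₗ
      e.symm.toLinearMap := by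
    apply LinearMap.ext
    intro u
    obtain ⟨⟨a, b⟩, rfl⟩ := e.surjective u
    rw [LinearMap.comp_apply, LinearMap.comp_apply, LinearEquiv.coe_coe, LinearEquiv.coe_coe,
      LinearEquiv.symm_apply_apply, Eleven.L_apply]
    show act y (B v a + B w b) = B v (Matrix.toLin' M a) + B w (Matrix.toLin' M b)
    rw [act_add, hTB, hTB]
  have hdet := det_L y
  rw [hconj, LinearMap.comp_assoc, LinearMap.det_conj, LinearMap.det_prodMap, hM] at hdet
  refine hc1 ?_
  linear_combination c * (hdet.symm) + cube_eq_one hF hc0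

/-- the scalars -/
theorem card_center (hF : Fintype.card F = 2 ^ 2) :
    Nat.card (Subgroup.center (Cfsg.SU 6 F 2)) = 3 := by
  have hs := Cfsg.Agent.S0280.result (F := F) (q := 2) hF 6 (by norm_num)
  have hp : (∏ i ∈ Finset.range 6, (if Even i then 2 ^ (i + 1) + 1 else 2 ^ (i + 1) - 1 : ℕ)) =
      3 * 3 * 9 * 15 * 33 * 63 := by
    simp [Finset.prod_range_succ, Nat.even_iff]
  rw [hp] at hs
  have h := Subgroup.card_eq_card_quotient_mul_card_subgroup (Subgroup.center (Cfsg.SU 6 F 2))
  rw [card_SU_six hF] at h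
  norm_num at hs h
  have hq : Nat.card (Cfsg.PSU 6 F 2) = 9196830720 := by omega
  change _ = Nat.card (Cfsg.PSU 6 F 2) * _ at h
  rw [hq] at h
  omega

/-- the order of the centraliser -/
theorem card_centralizer_SU (hF : Fintype.card F = 2 ^ 2) (hx : orderOf x = 7) :
    Nat.card (Subgroup.centralizer ({x} : Set (Cfsg.SU 6 F 2))) ∣ 21 := by
  set C := Subgroup.centralizer ({x} : Set (Cfsg.SU 6 F 2))
  have hC : ∀ y : C, y.1 * x = x * y.1 := fun y => Subgroup.mem_centralizer_singleton_iff.mp y.2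
  have hdvd := Subgroup.card_subgroup_dvd_card C
  rw [card_SU_six hF] at hdvd
  have hr : ∀ r : ℕ, r.Prime → (∀ y : Cfsg.SU 6 F 2, y * x = x * y → orderOf y = r → False) →
      ¬ r ∣ Nat.card C := by
    intro r hr hno hd
    have : Fact r.Prime := ⟨hr⟩
    obtain ⟨y, hy⟩ := exists_prime_orderOf_dvd_card' (G := C) r hd
    exact hno y.1 (hC y) (by rw [Subgroup.orderOf_coe, hy])
  have hfixed : ∀ y : Cfsg.SU 6 F 2, y * x = x * y → (∃ v, v ≠ 0 ∧ act y v = v) → orderOf y ≠ 1 →
      orderOf y ∣ 2 := fun y hyx hne h1 => by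
    obtain ⟨h3, hle⟩ := fixS_cases hF hx hyx hne (fun h => h1 (by rw [h, orderOf_one]))
    exact orderOf_dvd_of_pow_eq_one (by rw [sq, sq_eq_one hF h3 hle])
  have h2' := hr 2 (by norm_num) fun y hyx hy => no_involution hF hx hyx hy
  have h5 := hr 5 (by norm_num) fun y hyx hy => by
    have h := hfixed y hyx (exists_fixed_five hF hy) (by omega)
    rw [hy] at h
    norm_num at h
  have h11 := hr 11 (by norm_num) fun y hyx hy => by
    have hk := Eleven.finrank_fixS hF hy
    have h := finrank_invariant hF hx (U := fixS y) (fun u hu => fixS_invariant hyx.symm hu)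
    omega
  have : Fact (Nat.Prime 3) := ⟨by norm_num⟩
  let P : Sylow 3 C := default
  have hz3 : ∀ z : Cfsg.SU 6 F 2, z ∈ Subgroup.center (Cfsg.SU 6 F 2) → z ^ 3 = 1 := fun z hz => by
    obtain ⟨l, hl⟩ := (Cfsg.Agent.Lib.Unitary.mem_center_SU_iff hF (by norm_num) z).mp hz
    refine ext' fun v => ?_
    rw [act_one, pow_three, act_mul, act_mul, show act z v = l • v from hl v, act_smul,
      show act z v = l • v from hl v, act_smul, act_smul, show act z v = l • v from hl v, smul_smul, smul_smul]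
    have hl0 : l ≠ 0 := fun h0 => by
      have h := act_inv_self z (Pi.single 0 1 : Fin 6 → F)
      rw [show act z (Pi.single 0 1 : Fin 6 → F) = l • _ from hl _, h0, zero_smul] at h
      have h' := congrFun h 0
      rw [show act z⁻¹ (0 : Fin 6 → F) = 0 from (L z⁻¹).map_zero] at h'
      simp at h'
    rw [mul_assoc, ← pow_three, cube_eq_one hF hl0, one_smul]
  have hPcard : Nat.card P ∣ 3 := by
    have hPcen : ∀ p : P, (p.1.1 : Cfsg.SU 6 F 2) ∈ Subgroup.center (Cfsg.SU 6 F 2) := by
      intro p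
      obtain ⟨m, hm⟩ := P.isPGroup'.exists_orderOf_eq_pow p
      have ho : orderOf (p.1.1 : Cfsg.SU 6 F 2) = 3 ^ m := by
        rw [Subgroup.orderOf_coe, Subgroup.orderOf_coe, hm]
      rcases m with _ | _ | m
      · rw [pow_zero, orderOf_eq_one_iff] at ho
        rw [ho]; exact one_mem _
      · exact scalar_of_order_three hF hx (hC p.1) (by simpa using ho)
      · exfalso
        set y := (p.1.1 : Cfsg.SU 6 F 2) ^ (3 ^ m)
        have hy9 : orderOf y = 9 := by
          rw [orderOf_pow_of_dvd (by positivity) (by rw [ho]; exact pow_dvd_pow 3 (by omega)), ho,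
            show m + 1 + 1 = m + 2 from rfl, pow_add, Nat.mul_div_cancel_left _ (by positivity)]
          norm_num
        have hyx : y * x = x * y := ((Commute.pow_left (hC p.1) _).eq)
        have h33 : orderOf (y ^ 3) = 3 := by
          rw [orderOf_pow_of_dvd (by norm_num) (by rw [hy9]; norm_num), hy9]
        obtain ⟨c, hc⟩ := (Cfsg.Agent.Lib.Unitary.mem_center_SU_iff hF (by norm_num) _).mp
          (scalar_of_order_three hF hx ((Commute.pow_left hyx 3).eq) h33)
        refine no_cube_root hF (y := y) (c := c) (fun h1 => ?_) (fun v => ?_)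
        · have : y ^ 3 = 1 := ext' fun v => by
            rw [act_one, show act (y ^ 3) v = c • v from hc v, h1, one_smul]
          rw [this, orderOf_one] at h33
          omega
        · rw [← act_mul, ← act_mul, show y * y * y = y ^ 3 by rw [pow_three, mul_assoc]]
          exact hc v
    let ι : P →* Subgroup.center (Cfsg.SU 6 F 2) :=
      MonoidHom.codRestrict ((C.subtype).comp P.toSubgroup.subtype) _ hPcen
    have hι : Function.Injective ι := fun a b h => by
      have h' := congrArg Subtype.val h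
      exact Subtype.ext (Subtype.ext h')
    obtain ⟨n, hn⟩ := (IsPGroup.iff_card).mp P.isPGroup'
    have hP : ∀ p : P, p ^ 3 = 1 := fun p => hι (by
      rw [map_pow, map_one]; exact Subtype.ext (hz3 _ (hPcen p)))
    have := Subgroup.card_dvd_of_injective ι hι
    rwa [card_center hF] at this
  have h9 : ¬ 9 ∣ Nat.card C := by
    intro h9
    have hmul := P.card_eq_multiplicity
    have hle := (Nat.Prime.pow_dvd_iff_le_factorization (k := 2) (by norm_num : Nat.Prime 3) Nat.card_pos.ne').mp h9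
    rw [hmul] at hPcard
    have := (Nat.pow_dvd_pow_iff_le_right (by norm_num : 1 < 3)).mp (show 3 ^ _ ∣ 3 ^ 1 from hPcard)
    omega
  -- collect
  have hd : Nat.card C ∣ 3 ^ 7 * 7 := by
    have hc : Nat.Coprime (Nat.card C) (2 ^ 15 * 5 * 11) := by
      refine Nat.Coprime.mul_right (Nat.Coprime.mul_right (Nat.Coprime.pow_right _ ?_) ?_) ?_
      · exact ((Nat.Prime.coprime_iff_not_dvd (by norm_num)).mpr h2').symm
      · exact ((Nat.Prime.coprime_iff_not_dvd (by norm_num)).mpr h5).symm
      · exact ((Nat.Prime.coprime_iff_not_dvd (by norm_num)).mpr h11).symm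
    refine hc.dvd_of_dvd_mul_left ?_
    convert hdvd using 1; norm_num
  have hle := Nat.le_of_dvd (by norm_num) hd
  obtain ⟨a, b, ha, hb, hab⟩ := Nat.dvd_mul.mp hd
  obtain ⟨i, hi, rfl⟩ := (Nat.dvd_prime_pow (by norm_num : Nat.Prime 3)).mp ha
  have hi1 : i ≤ 1 := by
    by_contra hi2
    refine h9 ?_
    rw [← hab]
    exact dvd_mul_of_dvd_left (pow_dvd_pow 3 (show 2 ≤ i by omega)) b
  rw [← hab]
  exact (Nat.mul_dvd_mul (pow_dvd_pow 3 hi1) hb).trans (by norm_num)

end Cfsg.Agent.Lib.FischerMTypes.Seven
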