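import Mathlib
import Cfsg.Agent.Lib.FischerMTypes.OrderWidth
import Cfsg.Agent.Lib.FischerMTypes.Prime.Down
import Cfsg.Agent.Lib.FischerMTypes.Prime.Models
import Cfsg.Agent.Lib.FischerMTypes.Prime.SymChain
import Cfsg.Agent.Lib.FischerMTypes.Seven.Unitary

/-!
Subgroups of order 7 in the central quotient of the centraliser of a transposition in type M(22), and
the shape of the answer one and two levels up.
-/

set_option autoImplicit false
set_option linter.style.haveILetI false
set_option linter.unusedSectionVars false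

namespace Cfsg.Agent.Lib.FischerMTypes.Seven

open Cfsg.Agent.Lib.FischerMTypes.Basic Cfsg.Agent.Lib.FischerMTypes.Primitive
  Cfsg.Agent.Lib.FischerMTypes.Levels
  Cfsg.Agent.Lib.FischerMTypes.PointModel Cfsg.Agent.Lib.FischerMTypes.TraceCounts
open Cfsg.Agent.Lib.FischerMTypes.Eleven (fixed card_comap)
open Cfsg.Agent.Lib.FischerMTypes.PrimeOnce

universe u

variable {G : Type u} [Group G] [Finite G] {D : Set G}

instance fact7 : Fact (Nat.Prime 7) := ⟨by norm_num⟩

/-- modulo the scalars, elements of order 7 are self-centralising -/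
theorem card_centralizer_quot {F : Type*} [Field F] [Fintype F] (hF : Fintype.card F = 2 ^ 2) {K : Type*}
    [Group K] [Finite K] (φ : Cfsg.SU 6 F 2 →* K) (surj : Function.Surjective φ)
    (hker : φ.ker = Subgroup.center (Cfsg.SU 6 F 2)) {k : K} (hk : orderOf k = 7) :
    Nat.card (Subgroup.centralizer ({k} : Set K)) ≤ 7 := by
  have hker3 : Nat.card φ.ker = 3 := by rw [hker, card_center hF]
  have hz3 : ∀ z : Cfsg.SU 6 F 2, φ z = 1 → z ^ 3 = 1 := fun z hz => by
    have : (⟨z, hz⟩ : φ.ker) ^ 3 = 1 := by rw [← hker3]; exact pow_card_eq_one'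
    exact congrArg Subtype.val this
  obtain ⟨g, rfl⟩ := surj k
  set x := g ^ 15
  have hk7 : (φ g) ^ 7 = 1 := by rw [← hk]; exact pow_orderOf_eq_one _
  have hφx : φ x = φ g := by
    rw [map_pow, show (15 : ℕ) = 7 * 2 + 1 from rfl, pow_succ, pow_mul, hk7, one_pow, one_mul]
  have hx7 : x ^ 7 = 1 := by
    rw [← pow_mul, show 15 * 7 = 7 * 3 * 5 from rfl, pow_mul, pow_mul, hz3 _ (by rw [map_pow, hk7]),
      one_pow]
  have hx : orderOf x = 7 := by
    refine orderOf_eq_prime hx7 fun h1 => ?_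
    rw [← hφx, h1, map_one, orderOf_one] at hk
    omega
  set C := Subgroup.centralizer ({φ g} : Set K)
  have hle : C.comap φ ≤ Subgroup.centralizer ({x} : Set (Cfsg.SU 6 F 2)) := by
    intro y hy
    rw [Subgroup.mem_comap, Subgroup.mem_centralizer_singleton_iff] at hy
    rw [Subgroup.mem_centralizer_singleton_iff]
    set z := x⁻¹ * (y * x * y⁻¹)
    have hzker : φ z = 1 := by simp [z, hφx, hy]
    have hz1 : z = 1 := by
      have hc : Commute x z := Subgroup.mem_center_iff.mp (hker ▸ hzker : z ∈ Subgroup.center _) x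
      have h' : y * x * y⁻¹ = x * z := by simp [z]
      have h7 : z ^ 7 = 1 := by
        have := congrArg (· ^ 7) h'
        simpa [conj_pow, hx7, hc.mul_pow] using this.symm
      rw [show (7 : ℕ) = 3 * 2 + 1 from rfl, pow_succ, pow_mul, hz3 z hzker, one_pow, one_mul] at h7
      exact h7
    exact mul_inv_eq_iff_eq_mul.mp (inv_mul_eq_one.mp hz1).symm
  have h1 : Nat.card (C.comap φ) ∣ 21 := (Subgroup.card_dvd_of_le hle).trans (card_centralizer_SU hF hx)
  rw [card_comap surj, hker3, show (21 : ℕ) = 3 * 7 from rfl] at h1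
  exact Nat.le_of_dvd (by norm_num) ((Nat.mul_dvd_mul_iff_left (show 0 < 3 by norm_num)).mp h1)

/-- what is known one level below type M(22) -/
structure BaseData {Q : Type*} [Group Q] (E : Set Q) : Prop where
  once : Once 7 Q
  free : ∀ Y : Subgroup Q, Nat.card Y = 7 → fixed E Y = ∅
  cen : ∀ Y : Subgroup Q, Nat.card Y = 7 → Nat.card (Subgroup.centralizer (Y : Set Q)) = 7
  nor : ∀ Y : Subgroup Q, Nat.card Y = 7 → Nat.card (Subgroup.normalizer (Y : Set Q)) = 42

variable {F : Type} [Field F] [Fintype F]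

theorem base_data (S : Sys D F) {a : G} (ha : a ∈ D) : BaseData (setAt D a) := by
  set C := S.ctx a ha
  set E := setAt D a
  have hK : Nat.card (QuotAt D a) = 2 ^ 15 * 3 ^ 6 * 5 * 7 * 11 := by rw [C.card_quot, C.card_psu]
  have hK1 : Once 7 (QuotAt D a) := once_of_eq hK (m := 2 ^ 15 * 3 ^ 6 * 5 * 11) (by norm_num) (by norm_num)
  have hEn : E.ncard = 693 := by
    rw [← C.ncard_perp]
    refine (Set.ncard_congr (fun z hz => (QuotientGroup.mk ⟨z, Subgroup.subset_closure hz⟩ : QuotAt D a))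
      (fun z hz => (⟨⟨z, Subgroup.subset_closure hz⟩, hz, rfl⟩ :
        (QuotientGroup.mk ⟨z, Subgroup.subset_closure hz⟩ : QuotAt D a) ∈ E))
      (fun z w hz hw h => Unique.im_injective' S.hD C.hsub ha hz hw h) ?_).symm
    rintro _ ⟨⟨z, hzc⟩, hz, rfl⟩
    exact ⟨z, hz, rfl⟩
  have hfree : ∀ X : Subgroup (QuotAt D a), Nat.card X = 7 → fixed E X = ∅ := by
    intro X hX
    rw [Set.eq_empty_iff_forall_notMem]
    rintro q ⟨⟨⟨y, hyc⟩, hy, rfl⟩, hqX⟩
    have hcard := Eleven.card_eq_orbit_mul (H := (⊤ : Subgroup (QuotAt D a))) (O := E)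
      (x := (QuotientGroup.mk ⟨y, hyc⟩ : QuotAt D a)) (fun h _ => ?_) ?_
    · refine hK1.2 ?_
      rw [← Subgroup.card_top, hcard, hEn, pow_two]
      refine mul_dvd_mul (by norm_num) ?_
      rw [← hX]
      exact Subgroup.card_dvd_of_le (le_inf le_top fun u hu =>
        Subgroup.mem_centralizer_singleton_iff.mpr (Subgroup.mem_centralizer_iff.mp hqX u hu))
    · obtain ⟨k, rfl⟩ := QuotientGroup.mk_surjective h
      exact ⟨k * ⟨y, hyc⟩ * k⁻¹, conj_mem_of_mem_closure (perp_closed S.hD a) k.2 y hy, rfl⟩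
    · rintro _ ⟨⟨z, hzc⟩, hz, rfl⟩
      obtain ⟨h, hh, he⟩ := S.exists_conj_perp ha hy hz
      refine ⟨QuotientGroup.mk ⟨h, hh⟩, trivial, ?_⟩
      rw [← QuotientGroup.mk_inv, ← QuotientGroup.mk_mul, ← QuotientGroup.mk_mul]
      exact congrArg QuotientGroup.mk (Subtype.ext he)
  have hcen : ∀ X : Subgroup (QuotAt D a), Nat.card X = 7 →
      Nat.card (Subgroup.centralizer (X : Set (QuotAt D a))) = 7 := by
    intro X hX
    refine le_antisymm ?_ (hX.ge.trans (Subgroup.card_le_of_le (le_centralizer_self hX)))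
    obtain ⟨x, hx, rfl⟩ := exists_gen hX
    rw [centralizer_zpowers]
    exact card_centralizer_quot C.hF C.φ C.surj C.ker_eq hx
  refine ⟨hK1, hfree, hcen, fun X hX => ?_⟩
  obtain ⟨k, hk, hcard⟩ := exists_normalizer_mul hX
  rw [hcen X hX] at hcard
  have hidx := index_normalizer_mod hK1 hX
  have h := (Subgroup.normalizer (X : Set (QuotAt D a))).card_mul_index
  rw [hcard, hK] at h
  rw [hcard]
  have := Nat.le_of_dvd (by norm_num) hk
  interval_cases k <;> omega

/-- the answer at a subgroup of order 7 -/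
structure Res (D : Set G) (X : Subgroup G) (t s : ℕ) : Prop where
  ncard : (fixed D X).ncard = t
  cen : Nat.card
    (Subgroup.centralizer (X : Set G) ⊓ Subgroup.centralizer (fixed D X) : Subgroup G) = 7
  frob : Nat.card
    (Subgroup.normalizer (X : Set G) ⊓ Subgroup.centralizer (fixed D X) : Subgroup G) = 42
  nor : Nat.card (Subgroup.normalizer (X : Set G)) = 42 * s.factorial
  iso : Nonempty (↥(Subgroup.closure (fixed D X)) ≃* Equiv.Perm (Fin s))

theorem eq_one_of_centralizing {T : Set G} {s : ℕ} (hs : 3 ≤ s)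
    (hiso : Nonempty (↥(Subgroup.closure T) ≃* Equiv.Perm (Fin s))) {z : G} (hz : z ∈ Subgroup.closure T)
    (hzc : z ∈ Subgroup.centralizer T) : z = 1 := by
  obtain ⟨e⟩ := hiso
  have h1 : e ⟨z, hz⟩ = 1 := by
    refine SymChain.eq_one_of_central hs (Subgroup.mem_center_iff.mpr fun g => ?_)
    obtain ⟨⟨w, hw⟩, rfl⟩ := e.surjective g
    rw [← map_mul, ← map_mul]
    refine congrArg e (Subtype.ext ?_)
    exact (commute_closure (u := z) (fun y hy => (Subgroup.mem_centralizer_iff.mp hzc y hy).symm) w hw).eq.symm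
  exact congrArg Subtype.val (e.injective (h1.trans (map_one e).symm))

/-- the normaliser as a direct product -/
theorem Res.split {X : Subgroup G} (hX : Nat.card X = 7) {t s : ℕ} (hs : 3 ≤ s) (R : Res D X t s) :
    ∃ F : Subgroup G, Nat.card F = 42 ∧ X ≤ F ∧ F ⊓ Subgroup.centralizer (X : Set G) = X ∧
      F ⊓ Subgroup.closure (fixed D X) = ⊥ ∧
      (∀ x ∈ F, ∀ y ∈ Subgroup.closure (fixed D X), x * y = y * x) ∧
      F ⊔ Subgroup.closure (fixed D X) = Subgroup.normalizer (X : Set G) ∧
      Nonempty (↥(Subgroup.closure (fixed D X)) ≃* Equiv.Perm (Fin s)) := by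
  set T := fixed D X
  set F := Subgroup.normalizer (X : Set G) ⊓ Subgroup.centralizer T
  have hXF : X ≤ F := le_inf Subgroup.le_normalizer fun x hx => by
    rw [Subgroup.mem_centralizer_iff]
    exact fun y hy => (Subgroup.mem_centralizer_iff.mp hy.2 x hx).symm
  have hinf : F ⊓ Subgroup.closure T = ⊥ := by
    rw [Subgroup.eq_bot_iff_forall]
    intro z hz
    obtain ⟨hz1, hz2⟩ := Subgroup.mem_inf.mp hz
    exact eq_one_of_centralizing hs R.iso hz2 (Subgroup.mem_inf.mp hz1).2
  refine ⟨F, R.frob, hXF, ?_, hinf, fun x hx y hy => ?_, ?_, R.iso⟩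
  · refine (Subgroup.eq_of_le_of_card_ge (le_inf hXF (le_centralizer_self hX)) ?_).symm
    rw [hX, ← R.cen]
    refine Subgroup.card_le_of_le fun z hz => ?_
    obtain ⟨hz1, hz2⟩ := Subgroup.mem_inf.mp hz
    exact Subgroup.mem_inf.mpr ⟨hz2, (Subgroup.mem_inf.mp hz1).2⟩
  · exact (commute_closure (u := x) (fun y hy =>
      (Subgroup.mem_centralizer_iff.mp (Subgroup.mem_inf.mp hx).2 y hy).symm) y hy).eq
  · have hle : F ⊔ Subgroup.closure T ≤ Subgroup.normalizer (X : Set G) :=
      sup_le inf_le_left ((Subgroup.closure_le _).mpr fun y hy =>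
        Subgroup.centralizer_le_normalizer (X : Set G) hy.2)
    refine Subgroup.eq_of_le_of_card_ge hle ?_
    obtain ⟨e⟩ := R.iso
    let f : F × Subgroup.closure T → (F ⊔ Subgroup.closure T : Subgroup G) :=
      fun p => ⟨p.1.1 * p.2.1, mul_mem (Subgroup.mem_sup_left p.1.2) (Subgroup.mem_sup_right p.2.2)⟩
    have hf : Function.Injective f := fun p q h =>
      Subgroup.mul_injective_of_disjoint (disjoint_iff.mpr hinf) (congrArg Subtype.val h)
    have h := Nat.card_le_card_of_injective f hf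
    rw [Nat.card_prod, R.frob, Nat.card_congr e.toEquiv, Nat.card_perm, Nat.card_fin] at h
    rw [R.nor]
    exact h

end Cfsg.Agent.Lib.FischerMTypes.Seven
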