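import Mathlib
import Cfsg.Agent.Lib.FischerMTypes.StepPair
import Cfsg.Agent.Lib.FischerMTypes.M23Data
import Cfsg.Agent.Lib.FischerMTypes.Seven.Base

/-!
Subgroups of order 7 in the groups of types M(22) and M(23).
-/

set_option autoImplicit false
set_option linter.style.haveILetI false
set_option linter.unusedSectionVars false

namespace Cfsg.Agent.Lib.FischerMTypes.Seven

open Cfsg.Agent.Lib.FischerMTypes.Basic Cfsg.Agent.Lib.FischerMTypes.Primitive
  Cfsg.Agent.Lib.FischerMTypes.Levels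
  Cfsg.Agent.Lib.FischerMTypes.PointModel Cfsg.Agent.Lib.FischerMTypes.TraceCounts
open Cfsg.Agent.Lib.FischerMTypes.Eleven (fixed Down mem_cent_perp mem_cent_self card_eq_orbit_mul
  normalizer_conj_fixed)
open Cfsg.Agent.Lib.FischerMTypes.PrimeOnce

universe u

variable {G : Type u} [Group G] [Finite G] {D : Set G} {Q : Type*} [Group Q] [Finite Q] {E : Set Q}

theorem perm_three_commuting : ∀ p q : Equiv.Perm (Fin 3), p * p = 1 → q * q = 1 → p ≠ 1 → q ≠ 1 →
    p * q = q * p → p = q := by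
  have : ∀ (p : Equiv.Perm (Fin 3)), ∀ q ∈ (Finset.univ : Finset (Equiv.Perm (Fin 3))).filter
      (fun q => q * q = 1 ∧ q ≠ 1 ∧ p * q = q * p), p * p = 1 ∧ p ≠ 1 → p = q := by decide +kernel
  exact fun p q h1 h2 h3 h4 h5 => this p q (Finset.mem_filter.mpr ⟨Finset.mem_univ q, h2, h4, h5⟩) ⟨h1, h3⟩

/-- the members not commuting with `d` -/
abbrev farSet (D : Set G) (d : G) : Set G := {y | y ∈ D ∧ ¬ Commute d y}

variable (hD : Cfsg.IsThreeTranspositionGroup D)

include hD in
theorem far_closed {d : G} : ∀ g ∈ Subgroup.centralizer ({d} : Set G), ∀ y ∈ farSet D d,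
    g * y * g⁻¹ ∈ farSet D d := by
  intro g hg y hy
  refine ⟨hD.2.1 g y hy.1, fun hc => hy.2 ?_⟩
  have := (commute_conj_iff g d y).mp
  simp only [MulAut.conj_apply, Subgroup.mem_centralizer_singleton_iff.mp hg, mul_inv_cancel_right] at this
  exact this hc

include hD in
/-- a fixed far point, and the counting for the far fixed points -/
theorem far_count (hG : Once 7 G) {d : G} (M : Down D d E) {X : Subgroup G} (hX : Nat.card X = 7)
    (hXd : X ≤ Subgroup.centralizer ({d} : Set G)) {O : ℕ} (hO : (farSet D d).ncard = O)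
    (hO7 : ¬ 7 ∣ O) :
    ∃ e ∈ farSet D d, e ∈ Subgroup.centralizer (X : Set G) ∧
      Nat.card (Subgroup.normalizer (X : Set G) ⊓ Subgroup.centralizer ({d} : Set G) : Subgroup G) =
        {y | y ∈ farSet D d ∧ y ∈ Subgroup.centralizer (X : Set G)}.ncard *
          Nat.card (Subgroup.normalizer (X : Set G) ⊓ Subgroup.centralizer ({d} : Set G) ⊓
            Subgroup.centralizer ({e} : Set G) : Subgroup G) ∧
      ∃ i, i % 7 = 1 ∧ O * (Nat.card (Subgroup.normalizer (X : Set G) ⊓
        Subgroup.centralizer ({d} : Set G) ⊓ Subgroup.centralizer ({e} : Set G) : Subgroup G) * i) =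
          2 * Nat.card Q ∧
      7 ∣ Nat.card (Subgroup.normalizer (X : Set G) ⊓ Subgroup.centralizer ({d} : Set G) ⊓
        Subgroup.centralizer ({e} : Set G) : Subgroup G) := by
  set H := Subgroup.centralizer ({d} : Set G)
  have htr : ∀ x ∈ farSet D d, ∀ y ∈ farSet D d, ∃ g ∈ H, g * x * g⁻¹ = y :=
    fun x hx y hy => M.far x hx.1 hx.2 y hy.1 hy.2
  have hne : (farSet D d).Nonempty := Set.nonempty_of_ncard_ne_zero (by
    rw [hO]; rintro rfl; exact hO7 (dvd_zero 7))
  obtain ⟨e, he, heX⟩ := exists_fixed hG hX hXd hne (far_closed hD) htr (by rw [hO]; exact hO7)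
  refine ⟨e, he, heX, ncard_fixed_mul hG hX hXd (far_closed hD) htr he heX, ?_⟩
  have hle : X ≤ H ⊓ Subgroup.centralizer ({e} : Set G) := fun u hu => Subgroup.mem_inf.mpr
    ⟨hXd hu, Subgroup.mem_centralizer_singleton_iff.mpr (Subgroup.mem_centralizer_iff.mp heX u hu)⟩
  obtain ⟨i, hi, hcard⟩ := exists_index hG hX hle
  rw [← inf_assoc] at hcard
  refine ⟨i, hi, ?_, ?_⟩
  · rw [hcard, ← hO, ← M.card_cent]
    exact (card_eq_orbit_mul (fun g hg => far_closed hD g hg e he) (htr e he)).symm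
  · rw [← hX]
    exact Subgroup.card_dvd_of_le (le_inf (le_inf Subgroup.le_normalizer hXd) fun u hu =>
      (Subgroup.mem_inf.mp (hle hu)).2)

include hD in
/-- every subgroup of order 7 centralises a transposition -/
theorem exists_center (hG : Once 7 G) (hcl : ∀ a ∈ D, ∀ b ∈ D, ∃ g : G, g * a * g⁻¹ = b) (hne : D.Nonempty)
    (h7 : ¬ 7 ∣ D.ncard) {X : Subgroup G} (hX : Nat.card X = 7) :
    ∃ d ∈ D, d ∈ Subgroup.centralizer (X : Set G) :=
  exists_fixed (H := ⊤) hG hX le_top hne (fun g _ y hy => hD.2.1 g y hy)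
    (fun x hx y hy => (hcl x hx y hy).imp fun g hg => ⟨trivial, hg⟩) h7

include hD in
/-- the normaliser by the fixed transpositions -/
theorem card_normalizer_eq (hG : Once 7 G) (hcl : ∀ a ∈ D, ∀ b ∈ D, ∃ g : G, g * a * g⁻¹ = b)
    {X : Subgroup G} (hX : Nat.card X = 7) {d : G} (hd : d ∈ fixed D X) :
    Nat.card (Subgroup.normalizer (X : Set G)) = (fixed D X).ncard *
      Nat.card (Subgroup.normalizer (X : Set G) ⊓ Subgroup.centralizer ({d} : Set G) : Subgroup G) := by
  have h := ncard_fixed_mul (H := (⊤ : Subgroup G)) hG hX le_top (fun g _ y hy => hD.2.1 g y hy)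
    (fun x hx y hy => (hcl x hx y hy).imp fun g hg => ⟨trivial, hg⟩) hd.1 hd.2
  simp only [inf_top_eq] at h
  exact h

theorem centralizer_pair (d e : G) :
    Subgroup.centralizer ({d} : Set G) ⊓ Subgroup.centralizer ({e} : Set G) =
      Subgroup.centralizer ({d, e} : Set G) := by
  ext z
  simp [Subgroup.mem_centralizer_iff]

include hD in
theorem conj_fixed {X : Subgroup G} {g y : G} (hg : g ∈ Subgroup.closure (fixed D X)) (hy : y ∈ fixed D X) :
    g * y * g⁻¹ ∈ fixed D X :=
  normalizer_conj_fixed hD.2.1 ((Subgroup.closure_le _).mpr (fun z hz =>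
    Subgroup.centralizer_le_normalizer (X : Set G) hz.2) hg) hy

/-- type M(22) -/
theorem res_one {F : Type} [Field F] [Fintype F] (S : Sys D F) :
    Once 7 G ∧ ∀ X : Subgroup G, Nat.card X = 7 → Res D X 3 3 := by
  have hD := S.hD
  have hG : Once 7 G := once_of_eq (OrderWidth.card_group S) (m := 2 ^ 17 * 3 ^ 9 * 5 ^ 2 * 11 * 13)
    (by norm_num) (by norm_num)
  refine ⟨hG, fun X hX => ?_⟩
  have hn : D.ncard = 3510 := TraceSize.ncard_class S
  obtain ⟨d, hd, hdX⟩ := exists_center hD hG S.hprim.1 (Set.nonempty_of_ncard_ne_zero (by rw [hn]; norm_num))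
    (by rw [hn]; norm_num) hX
  have hXd : X ≤ Subgroup.centralizer ({d} : Set G) := fun u hu =>
    Subgroup.mem_centralizer_singleton_iff.mpr (Subgroup.mem_centralizer_iff.mp hdX u hu)
  obtain ⟨M⟩ := down_M22 S hd hd
  have B := base_data S hd
  have hodd : Odd 7 := by decide
  have hY : Nat.card (img M X) = 7 := card_img M hodd hX hXd
  have hperp : ∀ y ∈ perp D d, y ∉ Subgroup.centralizer (X : Set G) := by
    intro y hy hyX
    have h : M.π ⟨y, mem_cent_perp hy⟩ ∈ fixed (setAt D d) (img M X) :=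
      ⟨M.mem y hy, (mem_cen_iff M hodd hX hXd ⟨y, mem_cent_perp hy⟩).mp hyX⟩
    rw [B.free _ hY] at h
    exact Set.notMem_empty _ h
  have hO : (farSet D d).ncard = 2816 := by
    have h := (RankM22.rankData S).ncard_off hd
    show {y | y ∈ D ∧ ¬ Commute d y}.ncard = 2816
    omega
  have hQ : Nat.card (QuotAt D d) = 2 ^ 15 * 3 ^ 6 * 5 * 7 * 11 := by
    rw [(S.ctx d hd).card_quot, (S.ctx d hd).card_psu]
  have hNd := card_normalizer_inf M hodd hX hXd
  have hCd := card_centralizer_inf M hodd hX hXd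
  rw [B.nor _ hY] at hNd
  rw [B.cen _ hY] at hCd
  obtain ⟨e, he, heX, hmul, i, hi, hidx, h7⟩ := far_count hD hG M hX hXd hO (by norm_num)
  rw [hNd] at hmul
  rw [hQ] at hidx
  set f := {y | y ∈ farSet D d ∧ y ∈ Subgroup.centralizer (X : Set G)}.ncard with hf
  set m := Nat.card (Subgroup.normalizer (X : Set G) ⊓ Subgroup.centralizer ({d} : Set G) ⊓
    Subgroup.centralizer ({e} : Set G) : Subgroup G) with hm
  obtain ⟨j, hj⟩ := h7
  have hj12 : j ∣ 12 := by
    have : 7 * j ∣ 7 * 12 := ⟨f, by rw [← hj]; linarith⟩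
    exact (Nat.mul_dvd_mul_iff_left (by norm_num)).mp this
  have hm42 : m = 42 := by
    have hjle := Nat.le_of_dvd (by norm_num) hj12
    rw [hj] at hidx ⊢
    interval_cases j <;> omega
  have hf2 : f = 2 := by rw [hm42] at hmul; omega
  have hdT : d ∈ fixed D X := ⟨hd, hdX⟩
  have heT : e ∈ fixed D X := ⟨he.1, heX⟩
  have hsplit : fixed D X = insert d {y | y ∈ farSet D d ∧ y ∈ Subgroup.centralizer (X : Set G)} := by
    ext y
    constructor
    · rintro ⟨hy, hyX⟩
      by_cases h1 : y = d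
      · exact Or.inl h1
      by_cases h2 : Commute d y
      · exact absurd hyX (hperp y ⟨hy, h1, h2⟩)
      · exact Or.inr ⟨⟨hy, h2⟩, hyX⟩
    · rintro (rfl | ⟨hy, hyX⟩)
      · exact hdT
      · exact ⟨hy.1, hyX⟩
  have hded : d * e * d⁻¹ ∈ fixed D X := conj_fixed hD (Subgroup.subset_closure hdT) heT
  have hT3 : (fixed D X).ncard = 3 := by
    rw [hsplit, Set.ncard_insert_of_notMem (fun h => h.1.2 (Commute.refl d)), ← hf, hf2]
  have hde : e ≠ d * e * d⁻¹ := fun h => he.2 (eq_mul_inv_iff_mul_eq.mp h).symm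
  have hTeq : fixed D X = {d, e, d * e * d⁻¹} := by
    have hne1 : d ≠ e := fun h => he.2 (h ▸ Commute.refl d)
    have hne2 : d ≠ d * e * d⁻¹ := fun h => hne1 (by
      have := congrArg (fun z => d⁻¹ * z * d) h
      simpa [mul_assoc] using this)
    refine (Set.eq_of_subset_of_ncard_le ?_ ?_ (Set.toFinite _)).symm
    · rintro y (rfl | rfl | rfl)
      · exact hdT
      · exact heT
      · exact hded
    · rw [hT3, Set.ncard_eq_three.mpr ⟨_, _, _, hne1, hne2, hde, rfl⟩]
  have hclos : Subgroup.closure (fixed D X) = Subgroup.closure ({d, e} : Set G) := by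
    refine le_antisymm ((Subgroup.closure_le _).mpr ?_) (Subgroup.closure_mono ?_)
    · rw [hTeq]
      rintro y (rfl | rfl | rfl)
      · exact Subgroup.subset_closure (by simp)
      · exact Subgroup.subset_closure (by simp)
      · exact mul_mem (mul_mem (Subgroup.subset_closure (by simp)) (Subgroup.subset_closure (by simp)))
          (inv_mem (Subgroup.subset_closure (by simp)))
    · rintro y (rfl | rfl)
      · exact hdT
      · exact heT
  have hcentT : Subgroup.centralizer (fixed D X) =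
      Subgroup.centralizer ({d} : Set G) ⊓ Subgroup.centralizer ({e} : Set G) := by
    rw [centralizer_pair, ← Subgroup.centralizer_closure, hclos, Subgroup.centralizer_closure]
  have hdn : d ∉ Subgroup.centralizer ({e} : Set G) := fun h =>
    he.2 (Subgroup.mem_centralizer_singleton_iff.mp h)
  refine ⟨hT3, ?_, ?_, ?_, ?_⟩
  · rw [hcentT, ← inf_assoc]
    set C2 := Subgroup.centralizer (X : Set G) ⊓ Subgroup.centralizer ({d} : Set G)
    have hdvd : Nat.card (C2 ⊓ Subgroup.centralizer ({e} : Set G) : Subgroup G) ∣ 14 := by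
      rw [show (14 : ℕ) = 2 * 7 from rfl, ← hCd]; exact Subgroup.card_dvd_of_le inf_le_left
    have h7 : 7 ∣ Nat.card (C2 ⊓ Subgroup.centralizer ({e} : Set G) : Subgroup G) := by
      rw [← hX]
      exact Subgroup.card_dvd_of_le (le_inf (le_inf (le_centralizer_self hX) hXd) fun u hu =>
        Subgroup.mem_centralizer_singleton_iff.mpr (Subgroup.mem_centralizer_iff.mp heX u hu))
    have hne : Nat.card (C2 ⊓ Subgroup.centralizer ({e} : Set G) : Subgroup G) ≠ 14 := fun h => hdn (by
      have e' : C2 ⊓ Subgroup.centralizer ({e} : Set G) = C2 :=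
        Subgroup.eq_of_le_of_card_ge inf_le_left (by rw [h, hCd])
      have : d ∈ C2 := Subgroup.mem_inf.mpr ⟨hdX, mem_cent_self d⟩
      exact (Subgroup.mem_inf.mp (e'.ge this)).2)
    have := Nat.card_pos (α := (C2 ⊓ Subgroup.centralizer ({e} : Set G) : Subgroup G))
    have := Nat.le_of_dvd (by norm_num) hdvd
    omega
  · rw [hcentT, ← inf_assoc]; exact hm42
  · rw [card_normalizer_eq hD hG S.hprim.1 hX hdT, hT3, hNd]; rfl
  · rw [hclos]
    exact StepPair.pair_iso hD hd he.1 he.2

/-- type M(23) -/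
theorem res_two {F : Type} [Field F] [Fintype F] {Q : Type u} [Group Q] [Finite Q] {E : Set Q}
    (S22 : Sys E F) (S : Step.StepData D E 3510 693 180 126 6531840)
    (hG : Once 7 G) (hn : D.ncard = 31671)
    (hM : ∀ b ∈ D, Nonempty (Down D b E)) (hO : ∀ b ∈ D, (farSet D b).ncard = 28160) :
    ∀ X : Subgroup G, Nat.card X = 7 → Res D X 10 5 := by
  intro X hX
  have hD := S.hD
  have hodd : Odd 7 := by decide
  obtain ⟨-, hR⟩ := res_one S22
  have hQ := OrderWidth.card_group S22
  -- what is true at every fixed point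
  have hat : ∀ y ∈ fixed D X,
      ({u | u ∈ fixed D X ∧ u ≠ y ∧ Commute y u}.ncard = 3 ∧
        (∀ u ∈ fixed D X, u ≠ y → Commute y u → ∀ v ∈ fixed D X, v ≠ y → Commute y v → u ≠ v →
          ¬ Commute u v)) ∧
      (fixed D X).ncard = 10 ∧
      Nat.card (Subgroup.normalizer (X : Set G) ⊓ Subgroup.centralizer ({y} : Set G) : Subgroup G) = 504 := by
    intro y hy
    obtain ⟨M⟩ := hM y hy.1
    have hXy : X ≤ Subgroup.centralizer ({y} : Set G) := fun u hu =>
      Subgroup.mem_centralizer_singleton_iff.mpr (Subgroup.mem_centralizer_iff.mp hy.2 u hu)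
    have hY := card_img M hodd hX hXy
    have R := hR _ hY
    have hiff : ∀ u (hu : u ∈ perp D y), u ∈ Subgroup.centralizer (X : Set G) ↔
        M.π ⟨u, mem_cent_perp hu⟩ ∈ fixed E (img M X) := fun u hu =>
      ⟨fun h => ⟨M.mem u hu, (mem_cen_iff M hodd hX hXy ⟨u, mem_cent_perp hu⟩).mp h⟩,
        fun h => (mem_cen_iff M hodd hX hXy ⟨u, mem_cent_perp hu⟩).mpr h.2⟩
    have h3 : {u | u ∈ fixed D X ∧ u ≠ y ∧ Commute y u}.ncard = 3 := by
      rw [← R.ncard]
      refine Set.ncard_congr (fun u hu => M.π ⟨u, mem_cent_perp (⟨hu.1.1, hu.2.1, hu.2.2⟩ : u ∈ perp D y)⟩)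
        (fun u hu => (hiff u ⟨hu.1.1, hu.2.1, hu.2.2⟩).mp hu.1.2)
        (fun u v hu hv h => M.inj u ⟨hu.1.1, hu.2.1, hu.2.2⟩ v ⟨hv.1.1, hv.2.1, hv.2.2⟩ h) ?_
      intro q hq
      obtain ⟨u, hu, rfl⟩ := M.ex q hq.1
      exact ⟨u, ⟨⟨hu.1, (hiff u hu).mpr hq⟩, hu.2.1, hu.2.2⟩, rfl⟩
    have hnc : ∀ u ∈ fixed D X, u ≠ y → Commute y u → ∀ v ∈ fixed D X, v ≠ y → Commute y v → u ≠ v →
        ¬ Commute u v := by
      intro u hu huy hyu v hv hvy hyv huv hc
      obtain ⟨ι⟩ : Nonempty (↥(Subgroup.closure (fixed E (img M X))) ≃* Equiv.Perm (Fin 3)) := R.iso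
      have hu' : u ∈ perp D y := ⟨hu.1, huy, hyu⟩
      have hv' : v ∈ perp D y := ⟨hv.1, hvy, hyv⟩
      have hc' : Commute (M.π ⟨u, mem_cent_perp hu'⟩) (M.π ⟨v, mem_cent_perp hv'⟩) :=
        (M.commute_iff hD.2.1 ⟨u, mem_cent_perp hu'⟩ hv').mp hc
      set a' : Equiv.Perm (Fin 3) := ι ⟨_, Subgroup.subset_closure ((hiff u hu').mp hu.2)⟩
      set b' : Equiv.Perm (Fin 3) := ι ⟨_, Subgroup.subset_closure ((hiff v hv').mp hv.2)⟩
      have ha1 : a' * a' = 1 := by
        rw [← map_mul, ← map_one ι]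
        exact congrArg ι (Subtype.ext (mul_self S22.hD.1 (M.mem u hu')))
      have hb1 : b' * b' = 1 := by
        rw [← map_mul, ← map_one ι]
        exact congrArg ι (Subtype.ext (mul_self S22.hD.1 (M.mem v hv')))
      have hab : a' * b' = b' * a' := by
        rw [← map_mul, ← map_mul]
        exact congrArg ι (Subtype.ext hc'.eq)
      have hane : a' ≠ 1 := fun h => ne_one S22.hD.1 (M.mem u hu')
        (congrArg Subtype.val (ι.injective (h.trans (map_one ι).symm)))
      have hbne : b' ≠ 1 := fun h => ne_one S22.hD.1 (M.mem v hv')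
        (congrArg Subtype.val (ι.injective (h.trans (map_one ι).symm)))
      exact huv (M.inj u hu' v hv' (congrArg Subtype.val
        (ι.injective (perm_three_commuting a' b' ha1 hb1 hane hbne hab))))
    have hNy := card_normalizer_inf M hodd hX hXy
    rw [R.nor, show 2 * (42 * Nat.factorial 3) = 504 from rfl] at hNy
    obtain ⟨e, he, heX, hmul, i, hi, hidx, h7⟩ := far_count hD hG M hX hXy (hO y hy.1) (by norm_num)
    rw [hNy] at hmul
    rw [hQ] at hidx
    set f := {u | u ∈ farSet D y ∧ u ∈ Subgroup.centralizer (X : Set G)}.ncard with hf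
    set m := Nat.card (Subgroup.normalizer (X : Set G) ⊓ Subgroup.centralizer ({y} : Set G) ⊓
      Subgroup.centralizer ({e} : Set G) : Subgroup G) with hm
    obtain ⟨j, hj⟩ := h7
    have hj72 : j ∣ 72 := by
      have : 7 * j ∣ 7 * 72 := ⟨f, by rw [← hj]; linarith⟩
      exact (Nat.mul_dvd_mul_iff_left (by norm_num)).mp this
    have hf6 : f = 6 := by
      have hjle := Nat.le_of_dvd (by norm_num) hj72
      have hm84 : m = 84 := by
        rw [hj] at hidx ⊢
        interval_cases j <;> omega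
      rw [hm84] at hmul; omega
    refine ⟨⟨h3, hnc⟩, ?_, hNy⟩
    have hsplit : fixed D X = insert y ({u | u ∈ fixed D X ∧ u ≠ y ∧ Commute y u} ∪
        {u | u ∈ farSet D y ∧ u ∈ Subgroup.centralizer (X : Set G)}) := by
      ext u
      constructor
      · rintro ⟨hu, huX⟩
        by_cases h1 : u = y
        · exact Or.inl h1
        by_cases h2 : Commute y u
        · exact Or.inr (Or.inl ⟨⟨hu, huX⟩, h1, h2⟩)
        · exact Or.inr (Or.inr ⟨⟨hu, h2⟩, huX⟩)
      · rintro (rfl | ⟨hu, -⟩ | ⟨hu, huX⟩)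
        · exact hy
        · exact hu
        · exact ⟨hu.1, huX⟩
    rw [hsplit, Set.ncard_insert_of_notMem ?_, Set.ncard_union_eq
      (Set.disjoint_left.mpr fun u hu hu' => hu'.1.2 hu.2.2), h3, ← hf, hf6]
    rintro (h | h)
    · exact h.2.1 rfl
    · exact h.1.2 (Commute.refl y)
  obtain ⟨d, hd, hdX⟩ := exists_center hD hG S.hcl (Set.nonempty_of_ncard_ne_zero (by rw [hn]; norm_num))
    (by rw [hn]; norm_num) hX
  have hdT : d ∈ fixed D X := ⟨hd, hdX⟩
  obtain ⟨⟨h3, hnc⟩, h10, hNd⟩ := hat d hdT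
  set T := fixed D X
  set Pd := {u | u ∈ T ∧ u ≠ d ∧ Commute d u} with hPd
  have hconjT : ∀ g ∈ T, ∀ u ∈ T, g * u * g ∈ T := fun g hg u hu => by
    have := conj_fixed hD (Subgroup.subset_closure hg) hu
    rwa [inv_eq hD.1 hg.1] at this
  -- the perp set in `T` of a point commuting with `d`
  have hperp3 : ∀ b ∈ Pd, ∀ e ∈ T, Commute b e → ¬ Commute d e →
      ∀ u ∈ T, u ≠ b → Commute b u → u = d ∨ u = e ∨ u = d * e * d := by
    intro b hb e he hbe hde u hu hub hbu
    obtain ⟨⟨h3b, -⟩, -, -⟩ := hat b hb.1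
    have hsub : ({d, e, d * e * d} : Set G) ⊆ {v | v ∈ T ∧ v ≠ b ∧ Commute b v} := by
      rintro v (rfl | rfl | rfl)
      · exact ⟨hdT, Ne.symm hb.2.1, hb.2.2.symm⟩
      · exact ⟨he, fun h => hde (h.symm ▸ hb.2.2), hbe⟩
      · refine ⟨hconjT d hdT e he, fun h => hde ?_, ((hb.2.2.symm).mul_right hbe).mul_right hb.2.2.symm⟩
        have e1 : e = b := by
          rw [← conj_self_inv hD.1 hd e, h]
          exact conj_fix_of_commute hD.1 hd hb.2.2
        exact e1 ▸ hb.2.2
    have hne1 : d ≠ e := fun h => hde (h ▸ Commute.refl d)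
    have hne2 : d ≠ d * e * d := fun h => hne1 (by
      have := conj_self_inv hD.1 hd e
      rw [← h, mul_assoc, mul_self hD.1 hd, mul_one] at this
      exact this)
    have hne3 : e ≠ d * e * d := fun h => hde (by
      show d * e = e * d
      conv_lhs => rw [h]
      rw [← mul_assoc, ← mul_assoc, mul_self hD.1 hd, one_mul])
    have := Set.eq_of_subset_of_ncard_le hsub
      (by rw [h3b, Set.ncard_eq_three.mpr ⟨_, _, _, hne1, hne2, hne3, rfl⟩]) (Set.toFinite _)
    exact this.ge ⟨hu, hub, hbu⟩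
  obtain ⟨b, b', b'', hbb, -, -, hPeq⟩ := Set.ncard_eq_three.mp h3
  have hb : b ∈ Pd := hPeq.ge (Or.inl rfl)
  have hb' : b' ∈ Pd := hPeq.ge (Or.inr (Or.inl rfl))
  have hbb' : ¬ Commute b b' := hnc b hb.1 hb.2.1 hb.2.2 b' hb'.1 hb'.2.1 hb'.2.2 hbb
  obtain ⟨e, he, hbe, hde⟩ : ∃ e ∈ T, Commute b e ∧ ¬ Commute d e := by
    by_contra hcon
    push Not at hcon
    obtain ⟨⟨h3b, hncb⟩, -, -⟩ := hat b hb.1
    have hsub : {v | v ∈ T ∧ v ≠ b ∧ Commute b v} ⊆ {d} := by
      intro v hv
      by_contra hvd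
      exact hncb d hdT (Ne.symm hb.2.1) hb.2.2.symm v hv.1 hv.2.1 hv.2.2 (Ne.symm hvd) (hcon v hv.1 hv.2.2)
    have := Set.ncard_le_ncard hsub (Set.toFinite _)
    rw [h3b, Set.ncard_singleton] at this
    omega
  have hbne : b ≠ e := fun h => hde (h ▸ hb.2.2)
  have heb' : ¬ Commute e b' := by
    intro hc
    set ded := d * e * d
    set b₂ := b * b' * b
    have hdedT : ded ∈ T := hconjT d hdT e he
    have hb₂T : b₂ ∈ T := hconjT b hb.1 b' hb'.1
    set S6 : Finset G := by classical exact {d, e, ded, b, b', b₂}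
    classical
    have hPd3 : Pd = {b, b', b₂} := by
      have hne : b ≠ b₂ := fun h => hbb (by
        have := conj_self_inv hD.1 hb.1.1 b'
        rw [show b * b' * b = b from h.symm, mul_assoc, mul_self hD.1 hb.1.1, mul_one] at this
        exact this)
      have hne' : b' ≠ b₂ := fun h => hbb' (by
        show b * b' = b' * b
        conv_rhs => rw [show b' = b * b' * b from h]
        rw [mul_assoc, mul_self hD.1 hb.1.1, mul_one])
      refine (Set.eq_of_subset_of_ncard_le ?_ ?_ (Set.toFinite _)).symm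
      · rintro v (rfl | rfl | rfl)
        · exact hb
        · exact hb'
        · refine ⟨hb₂T, fun h => hb'.2.1 ?_, (hb.2.2.mul_right hb'.2.2).mul_right hb.2.2⟩
          rw [← conj_self_inv hD.1 hb.1.1 b', show b * b' * b = d from h]
          exact conj_fix_of_commute hD.1 hb.1.1 hb.2.2.symm
      · rw [h3, Set.ncard_eq_three.mpr ⟨_, _, _, hbb, hne, hne', rfl⟩]
    have hb₂e : Commute b₂ e := (hbe.mul_left hc.symm).mul_left hbe
    have hb₂P : b₂ ∈ Pd := by rw [hPd3]; simp
    -- every point of `S6` has all its neighbours in `S6`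
    have hclosed : ∀ u ∈ S6, ∀ v ∈ T, v ≠ u → Commute u v → v ∈ S6 := by
      intro u hu v hv hvu huv
      simp only [S6, Finset.mem_insert, Finset.mem_singleton] at hu ⊢
      have hP : ∀ w ∈ Pd, Commute w e → Commute w v → v ≠ w → v = d ∨ v = e ∨ v = ded :=
        fun w hw hwe hwv hvw => hperp3 w hw e he hwe hde v hv hvw hwv
      have hnb : ∀ z ∈ T, z ≠ b → Commute b z → z ≠ b' → Commute b' z → z ≠ b₂ → Commute b₂ z →
          v ≠ z → Commute z v → v = b ∨ v = b' ∨ v = b₂ := by
        intro z hz hzb hbz hzb' hb'z hzb₂ hb₂z hvz hzv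
        obtain ⟨⟨h3z, -⟩, -, -⟩ := hat z hz
        have hsub : ({b, b', b₂} : Set G) ⊆ {w | w ∈ T ∧ w ≠ z ∧ Commute z w} := by
          rintro w (rfl | rfl | rfl)
          · exact ⟨hb.1, Ne.symm hzb, hbz.symm⟩
          · exact ⟨hb'.1, Ne.symm hzb', hb'z.symm⟩
          · exact ⟨hb₂T, Ne.symm hzb₂, hb₂z.symm⟩
        have hge : ({b, b', b₂} : Set G).ncard = 3 := by rw [← hPd3, h3]
        exact (Set.eq_of_subset_of_ncard_le hsub (by rw [h3z, hge]) (Set.toFinite _)).ge ⟨hv, hvz, hzv⟩
      have hded' : ∀ w ∈ Pd, Commute w e → w ≠ ded ∧ Commute w ded ∧ w ≠ e := by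
        intro w hw hwe
        refine ⟨fun h => hde ?_, ((hw.2.2.symm).mul_right hwe).mul_right hw.2.2.symm, fun h => hde (h ▸ hw.2.2)⟩
        have e1 : e = w := by
          rw [← conj_self_inv hD.1 hd e, show d * e * d = w from h.symm]
          exact conj_fix_of_commute hD.1 hd hw.2.2
        exact e1 ▸ hw.2.2
      rcases hu with rfl | rfl | rfl | rfl | rfl | rfl
      · have hvP : v ∈ Pd := ⟨hv, hvu, huv⟩
        rw [hPd3] at hvP
        rcases hvP with h | h | h <;> [exact Or.inr (Or.inr (Or.inr (Or.inl h)));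
          exact Or.inr (Or.inr (Or.inr (Or.inr (Or.inl h)))); exact Or.inr (Or.inr (Or.inr (Or.inr (Or.inr h))))]
      · rcases hnb u he (Ne.symm hbne) hbe (Ne.symm (hded' b' hb' hc.symm).2.2) hc.symm
            (Ne.symm (hded' b₂ hb₂P hb₂e).2.2) hb₂e hvu huv with h | h | h
        · exact Or.inr (Or.inr (Or.inr (Or.inl h)))
        · exact Or.inr (Or.inr (Or.inr (Or.inr (Or.inl h))))
        · exact Or.inr (Or.inr (Or.inr (Or.inr (Or.inr h))))
      · obtain ⟨p1, q1, -⟩ := hded' b hb hbe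
        obtain ⟨p2, q2, -⟩ := hded' b' hb' hc.symm
        obtain ⟨p3, q3, -⟩ := hded' b₂ hb₂P hb₂e
        rcases hnb ded hdedT (Ne.symm p1) q1 (Ne.symm p2) q2 (Ne.symm p3) q3 hvu huv with h | h | h
        · exact Or.inr (Or.inr (Or.inr (Or.inl h)))
        · exact Or.inr (Or.inr (Or.inr (Or.inr (Or.inl h))))
        · exact Or.inr (Or.inr (Or.inr (Or.inr (Or.inr h))))
      · rcases hP u hb hbe huv hvu with h | h | h <;>
          [exact Or.inl h; exact Or.inr (Or.inl h); exact Or.inr (Or.inr (Or.inl h))]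
      · rcases hP u hb' hc.symm huv hvu with h | h | h <;>
          [exact Or.inl h; exact Or.inr (Or.inl h); exact Or.inr (Or.inr (Or.inl h))]
      · rcases hP b₂ hb₂P hb₂e huv hvu with h | h | h <;>
          [exact Or.inl h; exact Or.inr (Or.inl h); exact Or.inr (Or.inr (Or.inl h))]
    -- at most four points remain
    have hS6T : (S6 : Set G) ⊆ T := by
      intro v hv
      simp only [S6, Finset.coe_insert, Finset.coe_singleton, Set.mem_insert_iff, Set.mem_singleton_iff] at hv
      rcases hv with rfl | rfl | rfl | rfl | rfl | rfl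
      exacts [hdT, he, hdedT, hb.1, hb'.1, hb₂T]
    obtain ⟨r, hr, hrS⟩ : ∃ r ∈ T, r ∉ S6 := by
      by_contra hcon
      push Not at hcon
      have h1 := Set.ncard_le_ncard (show T ⊆ (S6 : Set G) from fun v hv => hcon v hv) (Set.toFinite _)
      rw [h10, Set.ncard_coe_finset] at h1
      have h2 : S6.card ≤ 6 := Finset.card_le_six
      omega
    obtain ⟨⟨h3r, hncr⟩, -, -⟩ := hat r hr
    obtain ⟨u, v, w, huv, huw, hvw, hrq⟩ := Set.ncard_eq_three.mp h3r
    have hu : u ∈ {z | z ∈ T ∧ z ≠ r ∧ Commute r z} := by rw [hrq]; simp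
    have hv : v ∈ {z | z ∈ T ∧ z ≠ r ∧ Commute r z} := by rw [hrq]; simp
    have hw : w ∈ {z | z ∈ T ∧ z ≠ r ∧ Commute r z} := by rw [hrq]; simp
    have hout : ∀ z ∈ {z | z ∈ T ∧ z ≠ r ∧ Commute r z}, z ∉ S6 := fun z hz hzS =>
      hrS (hclosed z hzS r hr (Ne.symm hz.2.1) hz.2.2.symm)
    -- the four points outside are pairwise commuting
    obtain ⟨⟨h3u, -⟩, -, -⟩ := hat u hu.1
    have hsub : {z | z ∈ T ∧ z ≠ u ∧ Commute u z} ⊆ T \ (insert u (S6 : Set G)) := fun z hz =>
      ⟨hz.1, fun h => h.elim hz.2.1 fun hzS => hout u hu (hclosed z hzS u hu.1 (Ne.symm hz.2.1) hz.2.2.symm)⟩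
    have hsize : (T \ (insert u (S6 : Set G))).ncard + ((S6 : Set G).ncard + 1) = 10 := by
      rw [← Set.ncard_insert_of_notMem (hout u hu : u ∉ (S6 : Set G)), ← h10,
        Set.ncard_sdiff_add_ncard_of_subset (Set.insert_subset hu.1 hS6T)]
    have h6 : (S6 : Set G).ncard ≥ 6 := by
      have hdis : Disjoint ({d, e, ded} : Set G) {b, b', b₂} := by
        rw [← hPd3, Set.disjoint_left]
        rintro z (rfl | rfl | rfl) hz
        · exact hz.2.1 rfl
        · exact hde hz.2.2
        · refine hde ?_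
          have hc2 : Commute d ded := hz.2.2
          have e1 : e = ded := by
            rw [← conj_self_inv hD.1 hd e]
            exact conj_fix_of_commute hD.1 hd hc2
          exact e1 ▸ hc2
      have hd1 : ({d, e, ded} : Set G).ncard = 3 := by
        refine Set.ncard_eq_three.mpr ⟨d, e, ded, fun h => hde (h ▸ Commute.refl d), fun h => ?_, fun h => ?_, rfl⟩
        · refine hde ?_
          have e1 := conj_self_inv hD.1 hd e
          rw [show d * e * d = d from h.symm, mul_assoc, mul_self hD.1 hd, mul_one] at e1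
          exact e1 ▸ Commute.refl d
        · refine hde ?_
          show d * e = e * d
          conv_lhs => rw [show e = d * e * d from h]
          rw [← mul_assoc, ← mul_assoc, mul_self hD.1 hd, one_mul]
      have e6 : (S6 : Set G) = {d, e, ded} ∪ {b, b', b₂} := by
        ext z; simp [S6]; tauto
      rw [e6, Set.ncard_union_eq hdis, hd1, ← hPd3, h3]
    have hle := Set.ncard_le_ncard hsub (Set.toFinite _)
    rw [h3u] at hle
    have hall : {z | z ∈ T ∧ z ≠ u ∧ Commute u z} = T \ (insert u (S6 : Set G)) :=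
      Set.eq_of_subset_of_ncard_le hsub (by rw [h3u]; omega) (Set.toFinite _)
    have huvc : Commute u v := (hall.ge ⟨hv.1, fun h => h.elim (Ne.symm huv) (hout v hv)⟩).2.2
    exact hncr u hu.1 hu.2.1 hu.2.2 v hv.1 hv.2.1 hv.2.2 huv huvc
  -- the chain
  let s : ℕ → G := fun i => if i = 0 then d else if i = 1 then e else if i = 2 then b' else b
  have hchain : SymChain.Chain D 4 s := by
    refine ⟨fun i hi => ?_, fun i hi => ?_, fun i j hij hj => ?_⟩
    · interval_cases i <;> simp [s] <;> [exact hd; exact he.1; exact hb'.1.1; exact hb.1.1]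
    · have : i < 3 := by omega
      interval_cases i <;> simp [s] <;> [exact hde; exact heb'; exact fun h => hbb' h.symm]
    · have hj' : (i = 0 ∧ j = 2) ∨ (i = 0 ∧ j = 3) ∨ (i = 1 ∧ j = 3) := by omega
      rcases hj' with ⟨rfl, rfl⟩ | ⟨rfl, rfl⟩ | ⟨rfl, rfl⟩ <;> simp [s] <;>
        [exact hb'.2.2; exact hb.2.2; exact hbe.symm]
  have hsT : ∀ i, i < 4 → s i ∈ T := fun i hi => by
    interval_cases i <;> simp [s] <;> [exact hdT; exact he; exact hb'.1; exact hb.1]
  have h10' : Nat.card {σ : Equiv.Perm (Fin 5) // σ.IsSwap} = 10 := by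
    rw [Nat.card_congr (Equiv.subtypeEquivRight fun σ : Equiv.Perm (Fin 5) => Equiv.Perm.card_support_eq_two.symm),
      Nat.card_eq_fintype_card]
    decide +kernel
  obtain ⟨hiso, hclos⟩ := SymChain.exists_iso hD.1 (n := 4) le_rfl hchain hsT
    (fun g hg y hy => conj_fixed hD hg hy) (by rw [h10, h10'])
  have hN : Nat.card (Subgroup.normalizer (X : Set G)) = 5040 := by
    rw [card_normalizer_eq hD hG S.hcl hX hdT, h10, hNd]
  -- the part fixing the chain
  have hchainCent : ∀ g : G, (∀ i, i < 4 → Commute g (s i)) → g ∈ Subgroup.centralizer T := by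
    intro g hg
    rw [← Subgroup.centralizer_closure, hclos, Subgroup.centralizer_closure, Subgroup.mem_centralizer_iff]
    rintro _ ⟨i, hi, rfl⟩
    exact (hg i hi).eq.symm
  obtain ⟨M⟩ := hM d hd
  have hXd : X ≤ Subgroup.centralizer ({d} : Set G) := fun u hu =>
    Subgroup.mem_centralizer_singleton_iff.mpr (Subgroup.mem_centralizer_iff.mp hdX u hu)
  have hY := card_img M hodd hX hXd
  have R := hR _ hY
  set H := Subgroup.centralizer ({d} : Set G)
  set K := Subgroup.normalizer (X : Set G) ⊓ (H ⊓ Subgroup.centralizer Pd) with hKdef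
  have hPiff : ∀ h : H, (h : G) ∈ Subgroup.centralizer Pd ↔
      M.π h ∈ Subgroup.centralizer (fixed E (img M X)) := by
    intro h
    simp only [Subgroup.mem_centralizer_iff]
    constructor
    · intro hh q hq
      obtain ⟨u, hu, rfl⟩ := M.ex q hq.1
      exact ((M.commute_iff hD.2.1 h hu).mp (hh u ⟨⟨hu.1, (mem_cen_iff M hodd hX hXd ⟨u, mem_cent_perp hu⟩).mpr hq.2⟩,
        hu.2.1, hu.2.2⟩).symm).eq.symm
    · intro hh u hu
      have hu' : u ∈ perp D d := ⟨hu.1.1, hu.2.1, hu.2.2⟩
      exact ((M.commute_iff hD.2.1 h hu').mpr (hh _ ⟨M.mem u hu',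
        (mem_cen_iff M hodd hX hXd ⟨u, mem_cent_perp hu'⟩).mp hu.1.2⟩).symm).eq.symm
  have hK : Nat.card K = 84 := by
    rw [card_preimage M (B := Subgroup.normalizer (img M X : Set Q) ⊓ Subgroup.centralizer (fixed E (img M X)))
      (inf_le_right.trans inf_le_left) fun h => ?_, R.frob]
    simp only [hKdef, Subgroup.mem_inf, mem_nor_iff M hodd hX hXd h, hPiff h]
    exact ⟨fun h' => ⟨h'.1, h'.2.2⟩, fun h' => ⟨h'.1, h.2, h'.2⟩⟩
  have hFeq : Subgroup.normalizer (X : Set G) ⊓ Subgroup.centralizer T =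
      K ⊓ Subgroup.centralizer ({e} : Set G) := by
    ext g
    simp only [hKdef, Subgroup.mem_inf, Subgroup.mem_centralizer_iff, H, Set.mem_singleton_iff]
    constructor
    · rintro ⟨h1, h2⟩
      exact ⟨⟨h1, fun y hy => hy.symm ▸ h2 d hdT, fun y hy => h2 y hy.1⟩, fun y hy => hy.symm ▸ h2 e he⟩
    · rintro ⟨⟨h1, h2, h3'⟩, h4⟩
      refine ⟨h1, Subgroup.mem_centralizer_iff.mp (hchainCent g fun i hi => ?_)⟩
      interval_cases i <;> simp [s] <;>
        [exact (h2 d rfl).symm; exact (h4 e rfl).symm; exact (h3' b' hb').symm; exact (h3' b hb).symm]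
  have horbit : Nat.card K = 2 * Nat.card (K ⊓ Subgroup.centralizer ({e} : Set G) : Subgroup G) := by
    have hne3 : e ≠ d * e * d := fun h => hde (by
      show d * e = e * d
      conv_lhs => rw [h]
      rw [← mul_assoc, ← mul_assoc, mul_self hD.1 hd, one_mul])
    rw [← Set.ncard_pair hne3]
    refine card_eq_orbit_mul (fun g hg => ?_) ?_
    · simp only [hKdef, Subgroup.mem_inf] at hg
      obtain ⟨hg1, hg2, hg3⟩ := hg
      have hgT := normalizer_conj_fixed hD.2.1 hg1 he
      have hgb : g * b * g⁻¹ = b := by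
        rw [← Subgroup.mem_centralizer_iff.mp hg3 b hb, mul_inv_cancel_right]
      have hgd : g * d * g⁻¹ = d := by
        rw [Subgroup.mem_centralizer_singleton_iff.mp hg2, mul_inv_cancel_right]
      have hc : Commute b (g * e * g⁻¹) := by
        have := (commute_conj_iff g b e).mpr hbe
        simpa [hgb] using this
      have hne : g * e * g⁻¹ ≠ b := fun h => hbne (mul_left_cancel (mul_right_cancel (h.trans hgb.symm))).symm
      rcases hperp3 b hb e he hbe hde _ hgT hne hc with h | h | h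
      · exact absurd (mul_left_cancel (mul_right_cancel (h.trans hgd.symm))) (fun h => hde (h ▸ Commute.refl d))
      · exact Or.inl h
      · exact Or.inr h
    · rintro y (rfl | rfl)
      · exact ⟨1, one_mem _, by simp⟩
      · refine ⟨d, ?_, by rw [inv_eq hD.1 hd]⟩
        simp only [hKdef, Subgroup.mem_inf]
        refine ⟨Subgroup.centralizer_le_normalizer (X : Set G) hdX, mem_cent_self d, ?_⟩
        rw [Subgroup.mem_centralizer_iff]
        exact fun y hy => hy.2.2.eq.symm
  have hF : Nat.card (Subgroup.normalizer (X : Set G) ⊓ Subgroup.centralizer T : Subgroup G) = 42 := by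
    rw [hFeq]; omega
  refine ⟨h10, ?_, hF, by rw [hN]; rfl, hiso⟩
  set C2 := Subgroup.centralizer (X : Set G) ⊓ (H ⊓ Subgroup.centralizer Pd) with hC2def
  have hC2 : Nat.card C2 = 14 := by
    rw [card_preimage M (B := Subgroup.centralizer (img M X : Set Q) ⊓ Subgroup.centralizer (fixed E (img M X)))
      (inf_le_right.trans inf_le_left) fun h => ?_, R.cen]
    simp only [hC2def, Subgroup.mem_inf, mem_cen_iff M hodd hX hXd h, hPiff h]
    exact ⟨fun h' => ⟨h'.1, h'.2.2⟩, fun h' => ⟨h'.1, h.2, h'.2⟩⟩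
  set C := Subgroup.centralizer (X : Set G) ⊓ Subgroup.centralizer T
  have hle : C ≤ C2 := by
    intro g hg
    obtain ⟨h1, h2⟩ := Subgroup.mem_inf.mp hg
    refine Subgroup.mem_inf.mpr ⟨h1, Subgroup.mem_inf.mpr ⟨?_, ?_⟩⟩
    · exact Subgroup.mem_centralizer_singleton_iff.mpr (Subgroup.mem_centralizer_iff.mp h2 d hdT).symm
    · exact Subgroup.centralizer_le (fun y hy => hy.1) h2
  have hdvd := Subgroup.card_dvd_of_le hle
  rw [hC2] at hdvd
  have h7 : 7 ∣ Nat.card C := by
    rw [← hX]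
    exact Subgroup.card_dvd_of_le (le_inf (le_centralizer_self hX) fun u hu =>
      Subgroup.mem_centralizer_iff.mpr fun y hy => (Subgroup.mem_centralizer_iff.mp hy.2 u hu).symm)
  have hne : Nat.card C ≠ 14 := fun h => by
    have heq : C = C2 := Subgroup.eq_of_le_of_card_ge hle (by rw [h, hC2])
    have hdC2 : d ∈ C2 := Subgroup.mem_inf.mpr ⟨hdX, Subgroup.mem_inf.mpr ⟨mem_cent_self d,
      Subgroup.mem_centralizer_iff.mpr fun y hy => hy.2.2.eq.symm⟩⟩
    rw [← heq] at hdC2
    exact hde (Subgroup.mem_centralizer_iff.mp (Subgroup.mem_inf.mp hdC2).2 e he).symm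
  have := Nat.card_pos (α := C)
  have := Nat.le_of_dvd (by norm_num) hdvd
  omega

end Cfsg.Agent.Lib.FischerMTypes.Seven
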