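import Mathlib
import Cfsg.Agent.Lib.FischerMTypes.StepGroup
import Cfsg.Agent.Lib.FischerMTypes.Seven.Levels

/-!
Subgroups of order 7 in types M(22) and M(23), from the definitions.
-/

set_option autoImplicit false
set_option linter.style.haveILetI false
set_option linter.unusedSectionVars false

namespace Cfsg.Agent.Lib.FischerMTypes.Seven

open Cfsg.Agent.Lib.FischerMTypes.TraceCounts
open Cfsg.Agent.Lib.FischerMTypes.PrimeOnce

universe u

variable {G : Type u} [Group G] [Finite G] {D : Set G}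

theorem res_M22 (hD : Cfsg.IsThreeTranspositionGroup D) (hprim : Cfsg.IsPrimitiveUnderConj D)
    (h : Cfsg.IsOfTypeM22 G D) : Once 7 G ∧ ∀ X : Subgroup G, Nat.card X = 7 → Res D X 3 3 := by
  obtain ⟨F, _, _, ⟨S⟩⟩ := exists_sys hD hprim h
  exact res_one S

theorem res_M23 (hD : Cfsg.IsThreeTranspositionGroup D) (hprim : Cfsg.IsPrimitiveUnderConj D)
    (h : Cfsg.IsOfTypeM23 G D) : Once 7 G ∧ ∀ X : Subgroup G, Nat.card X = 7 → Res D X 10 5 := by
  obtain ⟨Q, iQ, iQ', E, F, iF, iF', S22, ⟨S⟩⟩ := M23Data.exists_step hD hprim h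
  have P := M23Data.pinned hD hprim h S22 S
  have hn : D.ncard = 31671 := (S.ncard_class P (F := 28160) (by norm_num)).trans (by norm_num)
  have hG : Nat.card G = 2 ^ 18 * 3 ^ 13 * 5 ^ 2 * 7 * 11 * 13 * 17 * 23 := by
    rw [S.card_group P, hn, OrderWidth.card_group S22]
    norm_num
  have hG7 : Once 7 G :=
    once_of_eq hG (m := 2 ^ 18 * 3 ^ 13 * 5 ^ 2 * 11 * 13 * 17 * 23) (by norm_num) (by norm_num)
  exact ⟨hG7, res_two S22 S hG7 hn
    (fun b hb => down_step S P (f := 28160) (by norm_num) (by norm_num) hb)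
    (fun b hb => Step.StepData.ncard_far S P hb (F := 28160) (by norm_num))⟩

end Cfsg.Agent.Lib.FischerMTypes.Seven
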